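import Groth.Agent.Lib.LabGraph.Basic
import Groth.Prelude.Def_W4c4cptpiccptjacBI
import Mathlib.Order.Interval.Finset.Nat
import Mathlib.Data.Finset.Max

/-!
# The Basic Inequality
-/

universe u

namespace GrothLib.LabGraph

open Finset

set_option linter.unusedSectionVars false

variable {V E : Type u} [Fintype E] [Fintype V] [DecidableEq V] [DecidableEq E] {ends : E → V × V}
  {w : V → ℕ}

/-- Membership indicator. -/
def ind (Y : Finset V) (v : V) : ℤ := if v ∈ Y then 1 else 0

theorem ind_mem_zero_one (Y : Finset V) (v : V) : ind Y v = 0 ∨ ind Y v = 1 := by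
  by_cases h : v ∈ Y <;> simp [ind, h]

theorem cut_eq (Y : Finset V) :
    (LabGraph.cut ends Y : ℤ) = ∑ e, |dlt ends (ind Y) e| := by
  rw [LabGraph.cut, Finset.natCast_card_filter]
  refine Finset.sum_congr rfl fun e _ => ?_
  by_cases h1 : (ends e).1 ∈ Y <;> by_cases h2 : (ends e).2 ∈ Y <;> simp [dlt, ind, h1, h2]

theorem twist_eq (φ : V → ℤ) (v : V) :
    LabGraph.twist ends φ v = -LabGraph.boundary ends (dlt ends φ) v := by
  simp only [LabGraph.twist, LabGraph.boundary, ← Finset.sum_neg_distrib, dlt]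
  refine Finset.sum_congr rfl fun e _ => ?_
  split_ifs <;> ring

theorem sum_mul_twist (φ ψ : V → ℤ) :
    ∑ v, ψ v * LabGraph.twist ends φ v = -∑ e, dlt ends φ e * dlt ends ψ e := by
  simp only [twist_eq, mul_neg, Finset.sum_neg_distrib]
  rw [show ∑ e, dlt ends φ e * dlt ends ψ e = pair ends (dlt ends φ) ψ from rfl, pair_eq_boundary]
  exact congrArg _ (Finset.sum_congr rfl fun v _ => mul_comm _ _)

theorem sum_twist_eq (φ : V → ℤ) (Y : Finset V) :
    ∑ v ∈ Y, LabGraph.twist ends φ v = -∑ e, dlt ends φ e * dlt ends (ind Y) e := by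
  rw [← sum_mul_twist]
  simp [ind, ite_mul]

theorem sum_twist (φ : V → ℤ) : ∑ v, LabGraph.twist ends φ v = 0 := by
  rw [sum_twist_eq]; simp [dlt, ind]

theorem sum_endCount : ∑ v, (LabGraph.endCount ends univ v : ℤ) = 2 * Fintype.card E := by
  have := sum_endCount_mul (ends := ends) univ (fun _ => 1)
  simp at this
  rw [this]; ring

theorem canDeg_univ :
    LabGraph.canDeg ends w univ = 2 * LabGraph.genus ends w - 2 := by
  simp only [LabGraph.canDeg, LabGraph.genus, Finset.sum_add_distrib, Finset.sum_sub_distrib,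
    ← Finset.mul_sum, sum_endCount, Finset.sum_const, Finset.card_univ, nsmul_eq_mul]
  ring

theorem canDeg_pos {g₀ : ℤ} (h : g₀ ≤ LabGraph.genus ends w) (h2 : 2 ≤ g₀) :
    0 < LabGraph.canDeg ends w univ := by rw [canDeg_univ]; omega

variable (ends w) in
/-- The signed defect of the Basic Inequality. -/
def defect (d : V → ℤ) (Y : Finset V) : ℤ :=
  2 * (LabGraph.canDeg ends w univ * (∑ v ∈ Y, d v) - (∑ v, d v) * LabGraph.canDeg ends w Y)

theorem defect_compl (d : V → ℤ) (Y : Finset V) :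
    defect ends w d Yᶜ = -defect ends w d Y := by
  have h1 := Finset.sum_add_sum_compl Y d
  have h2 := Finset.sum_add_sum_compl Y (fun v => 2 * (w v : ℤ) - 2 + (LabGraph.endCount ends univ v : ℤ))
  simp only [defect, LabGraph.canDeg] at *
  linear_combination (2 * (∑ v, (2 * (w v : ℤ) - 2 + (LabGraph.endCount ends univ v : ℤ)))) * h1
    - (2 * ∑ v, d v) * h2

theorem cut_compl (Y : Finset V) : LabGraph.cut ends Yᶜ = LabGraph.cut ends Y := by
  simp only [LabGraph.cut, Finset.mem_compl, not_not]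
  congr 1
  exact Finset.filter_congr fun e _ => by tauto

theorem satisfiesBI_iff (d : V → ℤ) :
    LabGraph.SatisfiesBI ends w d ↔
      ∀ Y, defect ends w d Y ≤ (LabGraph.cut ends Y : ℤ) * LabGraph.canDeg ends w univ := by
  constructor
  · intro h Y
    refine le_trans ?_ (h Y)
    rw [defect]
    exact mul_le_mul_of_nonneg_left (le_abs_self _) (by norm_num)
  · intro h Y
    have h1 := h Y
    have h2 := h Yᶜ
    rw [defect_compl, cut_compl] at h2
    rw [defect] at h1 h2
    rw [← abs_two, ← abs_mul, abs_le]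
    constructor <;> linarith

theorem defect_le {d : V → ℤ} (h : LabGraph.SatisfiesBI ends w d) (Y : Finset V) :
    defect ends w d Y ≤ (LabGraph.cut ends Y : ℤ) * LabGraph.canDeg ends w univ :=
  (satisfiesBI_iff d).mp h Y

theorem defect_add_twist (d φ : V → ℤ) (Y : Finset V) :
    defect ends w (fun v => d v + LabGraph.twist ends φ v) Y =
      defect ends w d Y
        - 2 * LabGraph.canDeg ends w univ * ∑ e, dlt ends φ e * dlt ends (ind Y) e := by
  simp only [defect, Finset.sum_add_distrib]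
  rw [sum_twist, sum_twist_eq]
  ring

theorem defect_modular (d : V → ℤ) (Y Z : Finset V) :
    defect ends w d (Y ∪ Z) + defect ends w d (Y ∩ Z) = defect ends w d Y + defect ends w d Z := by
  have h1 := Finset.sum_union_inter (s₁ := Y) (s₂ := Z) (f := d)
  have h2 := Finset.sum_union_inter (s₁ := Y) (s₂ := Z)
    (f := fun v => 2 * (w v : ℤ) - 2 + (LabGraph.endCount ends univ v : ℤ))
  simp only [defect, LabGraph.canDeg] at *
  linear_combination (2 * (∑ v, (2 * (w v : ℤ) - 2 + (LabGraph.endCount ends univ v : ℤ)))) * h1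
    - (2 * ∑ v, d v) * h2

theorem exists_satisfiesBI (hc : LabGraph.Connected ends) (hpos : 0 < LabGraph.canDeg ends w univ)
    (d : V → ℤ) :
    ∃ d' : V → ℤ, LabGraph.TwistEquiv ends d' d ∧ LabGraph.SatisfiesBI ends w d' := by
  classical
  obtain ⟨v₀⟩ := hc.1
  set C := LabGraph.canDeg ends w univ with hC
  let c : V → ℤ := fun v => C * d v - (∑ u, d u) *
    (2 * (w v : ℤ) - 2 + (LabGraph.endCount ends univ v : ℤ))
  have hc0 : ∑ v, c v = 0 := by
    simp only [c, Finset.sum_sub_distrib, ← Finset.mul_sum]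
    rw [show ∑ v, (2 * (w v : ℤ) - 2 + (LabGraph.endCount ends univ v : ℤ)) = C from rfl]; ring
  choose flow _ hflow using fun v => exists_flow (linked_univ hc v₀ v)
  let γ : E → ℤ := fun e => ∑ v, c v * flow v e
  have hγ : ∀ φ : V → ℤ, ∑ e, γ e * dlt ends φ e = ∑ v, c v * φ v := by
    intro φ
    have : ∀ v, ∑ e, c v * flow v e * dlt ends φ e = c v * φ v - c v * φ v₀ := fun v => by
      simp only [mul_assoc, ← Finset.mul_sum]
      rw [show ∑ e, flow v e * dlt ends φ e = φ v - φ v₀ from hflow v φ]; ring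
    simp only [γ, Finset.sum_mul]
    rw [Finset.sum_comm, Finset.sum_congr rfl fun v _ => this v, Finset.sum_sub_distrib,
      ← Finset.sum_mul, hc0]
    ring
  let F : (V → ℤ) → ℤ := fun φ => -C * (∑ e, dlt ends φ e * dlt ends φ e) + 2 * ∑ v, c v * φ v
  obtain ⟨M, ⟨φ, hφ⟩, hmax⟩ := Int.exists_greatest_of_bdd (P := fun z => ∃ φ, F φ = z)
    ⟨∑ e, γ e * γ e, fun z ⟨φ, hφ⟩ => by
      rw [← hφ]
      simp only [F, ← hγ, Finset.mul_sum, ← Finset.sum_add_distrib]
      refine Finset.sum_le_sum fun e _ => ?_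
      have := mul_nonneg (show 0 ≤ C - 1 by omega) (mul_self_nonneg (dlt ends φ e))
      nlinarith [mul_self_nonneg (dlt ends φ e - γ e)]⟩ ⟨F 0, 0, rfl⟩
  refine ⟨fun v => d v + LabGraph.twist ends φ v, ⟨φ, fun v => by ring⟩, (satisfiesBI_iff _).mpr fun Z => ?_⟩
  have hle : F (φ + ind Z) ≤ F φ := hφ ▸ hmax _ ⟨_, rfl⟩
  have hsq : ∑ e, dlt ends (ind Z) e * dlt ends (ind Z) e = (LabGraph.cut ends Z : ℤ) := by
    rw [cut_eq]
    refine Finset.sum_congr rfl fun e _ => ?_
    rcases ind_mem_zero_one Z (ends e).1 with h1 | h1 <;>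
      rcases ind_mem_zero_one Z (ends e).2 with h2 | h2 <;> simp [dlt, h1, h2]
  have hexp : F (φ + ind Z) = F φ - C * (LabGraph.cut ends Z : ℤ)
      - 2 * C * (∑ e, dlt ends φ e * dlt ends (ind Z) e) + 2 * ∑ v ∈ Z, c v := by
    have hcz : ∑ v, c v * ind Z v = ∑ v ∈ Z, c v := by simp [ind, mul_ite]
    rw [← hcz, ← hsq]
    simp only [F, dlt_add, Pi.add_apply, mul_add, add_mul, Finset.sum_add_distrib]
    rw [show ∑ e, dlt ends (ind Z) e * dlt ends φ e = ∑ e, dlt ends φ e * dlt ends (ind Z) e from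
      Finset.sum_congr rfl fun e _ => mul_comm _ _]
    ring
  have hcZ : 2 * ∑ v ∈ Z, c v = defect ends w d Z := by
    simp only [c, defect, Finset.sum_sub_distrib, ← Finset.mul_sum, LabGraph.canDeg]
    simp only [C, LabGraph.canDeg]
  rw [defect_add_twist]
  rw [hexp, hcZ] at hle
  linarith

theorem bi_twist (d : V → ℤ) (hBI : LabGraph.SatisfiesBI ends w d)
    (hpos : 0 < LabGraph.canDeg ends w univ) (Z : Finset V)
    (hZ : defect ends w d Z = (LabGraph.cut ends Z : ℤ) * LabGraph.canDeg ends w univ) :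
    LabGraph.SatisfiesBI ends w (fun v => d v + LabGraph.twist ends (ind Z) v) := by
  refine (satisfiesBI_iff _).mpr fun Y => ?_
  rw [defect_add_twist]
  have hm := defect_modular (ends := ends) (w := w) d Y Z
  have h1 := defect_le hBI (Y ∪ Z)
  have h2 := defect_le hBI (Y ∩ Z)
  have hedge : ∑ e, (|dlt ends (ind (Y ∪ Z)) e| + |dlt ends (ind (Y ∩ Z)) e| - |dlt ends (ind Z) e|
      - 2 * (dlt ends (ind Z) e * dlt ends (ind Y) e)) ≤ ∑ e, |dlt ends (ind Y) e| := by
    refine Finset.sum_le_sum fun e _ => ?_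
    by_cases a1 : (ends e).1 ∈ Y <;> by_cases a2 : (ends e).2 ∈ Y <;>
      by_cases b1 : (ends e).1 ∈ Z <;> by_cases b2 : (ends e).2 ∈ Z <;>
      simp [dlt, ind, a1, a2, b1, b2]
  simp only [Finset.sum_add_distrib, Finset.sum_sub_distrib, ← cut_eq, ← Finset.mul_sum] at hedge
  have := mul_le_mul_of_nonneg_right hedge hpos.le
  linarith

theorem cross_eq_one {d d' φ : V → ℤ} (hpos : 0 < LabGraph.canDeg ends w univ)
    (hBI : LabGraph.SatisfiesBI ends w d) (hBI' : LabGraph.SatisfiesBI ends w d')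
    (hφ : ∀ v, d v - d' v = LabGraph.twist ends φ v) (e : E) :
    -1 ≤ dlt ends φ e ∧ dlt ends φ e ≤ 1 := by
  set t := max (φ (ends e).1) (φ (ends e).2) with ht
  let Z := univ.filter fun v => t ≤ φ v
  have hd : d = fun v => d' v + LabGraph.twist ends φ v := funext fun v => by rw [← hφ]; ring
  have h1 := defect_le hBI Zᶜ
  have h2 := defect_le hBI' Z
  have hA := defect_add_twist (ends := ends) (w := w) d' φ Z
  rw [← hd] at hA
  rw [defect_compl, cut_compl, hA] at h1
  have hnn : ∀ a, 0 ≤ dlt ends φ a * dlt ends (ind Z) a - |dlt ends (ind Z) a| := fun a => by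
    by_cases a1 : t ≤ φ (ends a).1 <;> by_cases a2 : t ≤ φ (ends a).2 <;>
      simp [dlt, ind, Z, a1, a2] <;> omega
  have hle : ∑ a, (dlt ends φ a * dlt ends (ind Z) a - |dlt ends (ind Z) a|) ≤ 0 := by
    rw [Finset.sum_sub_distrib, ← cut_eq]
    refine sub_nonpos.mpr (le_of_mul_le_mul_right ?_ hpos)
    linarith
  have h0 := (Finset.sum_eq_zero_iff_of_nonneg fun a _ => hnn a).mp
    (le_antisymm hle (Finset.sum_nonneg fun a _ => hnn a)) e (mem_univ e)
  by_cases a1 : t ≤ φ (ends e).1 <;> by_cases a2 : t ≤ φ (ends e).2 <;>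
    simp [dlt, ind, Z, a1, a2] at h0 ⊢ <;> omega

theorem exists_crossing (hc : LabGraph.Connected ends) (p : V → Prop) {a b : V} (ha : p a)
    (hb : ¬ p b) :
    ∃ e, (p (ends e).1 ∧ ¬ p (ends e).2) ∨ (¬ p (ends e).1 ∧ p (ends e).2) := by
  classical
  by_contra hne
  push Not at hne
  have := (linked_univ hc a b).apply_eq p fun e _ => propext ⟨fun h => (hne e).1 h, fun h => by
    by_contra h'; exact (hne e).2 h' h⟩
  exact hb (this ▸ ha)

theorem exists_levels (hc : LabGraph.Connected ends) (hpos : 0 < LabGraph.canDeg ends w univ)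
    {d d' : V → ℤ} (hBI : LabGraph.SatisfiesBI ends w d) (hBI' : LabGraph.SatisfiesBI ends w d')
    (heq : LabGraph.TwistEquiv ends d d') :
    ∃ (q : ℕ) (h : V → ℕ), (∀ v : V, h v ≤ q) ∧ (∀ i : ℕ, i ≤ q → ∃ v : V, h v = i) ∧
      (∀ v : V, d v - d' v = LabGraph.twist ends (fun u => (h u : ℤ)) v) ∧
      (∀ i j : ℕ, i ≤ q → j ≤ q → i ≠ j →
        ((∃ e : E, (h (ends e).1 = i ∧ h (ends e).2 = j) ∨ (h (ends e).1 = j ∧ h (ends e).2 = i)) ↔
          (i + 1 = j ∨ j + 1 = i))) := by
  obtain ⟨φ, hφ⟩ := heq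
  have : Nonempty V := hc.1
  obtain ⟨vm, -, hvm⟩ := Finset.exists_min_image univ φ univ_nonempty
  obtain ⟨vM, -, hvM⟩ := Finset.exists_max_image univ φ univ_nonempty
  let h : V → ℕ := fun v => (φ v - φ vm).toNat
  have hcast : ∀ v, (h v : ℤ) = φ v - φ vm := fun v =>
    Int.toNat_of_nonneg (sub_nonneg.mpr (hvm v (mem_univ v)))
  have hstep : ∀ e, h (ends e).1 ≤ h (ends e).2 + 1 ∧ h (ends e).2 ≤ h (ends e).1 + 1 := fun e => by
    have := cross_eq_one hpos hBI hBI' hφ e
    have h1 := hcast (ends e).1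
    have h2 := hcast (ends e).2
    simp only [dlt] at this
    omega
  have hmax : ∀ v, h v ≤ h vM := fun v => by
    have := hvM v (mem_univ v); have := hcast v; have := hcast vM; omega
  have hm0 : h vm = 0 := by have := hcast vm; omega
  have hbetween : ∀ i, i < h vM → ∃ e, (h (ends e).1 = i ∧ h (ends e).2 = i + 1) ∨
      (h (ends e).1 = i + 1 ∧ h (ends e).2 = i) := fun i hi => by
    obtain ⟨e, he⟩ := exists_crossing hc (fun v => h v ≤ i) (a := vm) (b := vM) (by omega) (by omega)
    have := hstep e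
    refine ⟨e, ?_⟩
    omega
  refine ⟨h vM, h, hmax, fun i hi => ?_, fun v => ?_, fun i j hi hj hij => ⟨fun ⟨e, he⟩ => ?_, fun h' => ?_⟩⟩
  · rcases hi.lt_or_eq with h' | h'
    · obtain ⟨e, he | he⟩ := hbetween i h'
      · exact ⟨_, he.1⟩
      · exact ⟨_, he.2⟩
    · exact ⟨vM, h'.symm⟩
  · rw [hφ]
    simp [LabGraph.twist, hcast]
  · have := hstep e; omega
  · rcases h' with rfl | rfl
    · exact hbetween i (by omega)
    · obtain ⟨e, he⟩ := hbetween j (by omega)
      exact ⟨e, he.symm⟩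

/-! ## Exceptional vertices -/

/-- The edges at a vertex leading elsewhere. -/
def star (ends : E → V × V) (v : V) : Finset E :=
  univ.filter fun e => ((ends e).1 = v ∧ (ends e).2 ≠ v) ∨ ((ends e).1 ≠ v ∧ (ends e).2 = v)

theorem card_star {v : V} (h : LabGraph.IsExceptional ends w v) : (star ends v).card = 2 := by
  rw [← h.2.2]
  simp [star, LabGraph.cut]

theorem mem_star {v : V} (h : LabGraph.IsExceptional ends w v) {e : E} :
    e ∈ star ends v ↔ (ends e).1 = v ∨ (ends e).2 = v := by
  have := h.2.1 e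
  simp only [star, Finset.mem_filter, Finset.mem_univ, true_and]
  constructor
  · rintro (h | h) <;> simp [h.1, h.2]
  · rintro (h | h)
    · exact Or.inl ⟨h, fun h' => this (Prod.ext h h')⟩
    · exact Or.inr ⟨fun h' => this (Prod.ext h' h), h⟩

/-- The degree of an exceptional vertex is zero. -/
theorem canDeg_exc {v : V} (h : LabGraph.IsExceptional ends w v) :
    2 * (w v : ℤ) - 2 + (LabGraph.endCount ends univ v : ℤ) = 0 := by
  have h2 : LabGraph.endCount ends univ v = 2 := by
    rw [← card_star h, Finset.card_eq_sum_ones, LabGraph.endCount, star, Finset.sum_filter]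
    refine Finset.sum_congr rfl fun e _ => ?_
    have := h.2.1 e
    by_cases h1 : (ends e).1 = v <;> by_cases h2 : (ends e).2 = v <;> simp [h1, h2]
    exact this (Prod.ext h1 h2)
  rw [h2, h.1]; norm_num

/-- An extremal set not containing an exceptional vertex of degree one misses its neighbours. -/
theorem exc_nbr_notMem {d : V → ℤ} (hBI : LabGraph.SatisfiesBI ends w d)
    (hpos : 0 < LabGraph.canDeg ends w univ) {v : V} (hv : LabGraph.IsExceptional ends w v)
    (hd : d v = 1) {Z : Finset V}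
    (hZ : defect ends w d Z = (LabGraph.cut ends Z : ℤ) * LabGraph.canDeg ends w univ) (hvZ : v ∉ Z)
    {e : E} (he : (ends e).1 = v ∨ (ends e).2 = v) : (ends e).1 ∉ Z ∧ (ends e).2 ∉ Z := by
  have h1 := defect_le hBI (insert v Z)
  have hdef : defect ends w d (insert v Z) = defect ends w d Z + 2 * LabGraph.canDeg ends w univ := by
    simp only [defect, LabGraph.canDeg, Finset.sum_insert hvZ, hd, canDeg_exc hv]
    ring
  rw [hdef, hZ] at h1
  by_contra hne
  have hdiff : ∀ a, |dlt ends (ind (insert v Z)) a| - |dlt ends (ind Z) a|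
      ≤ if a ∈ star ends v then (if a = e then -1 else 1) else 0 := by
    intro a
    by_cases ha : a ∈ star ends v
    · rw [if_pos ha]
      have := (mem_star hv).mp ha
      have hl := hv.2.1 a
      by_cases hae : a = e
      · subst hae
        rw [if_pos rfl]
        rcases this with h | h
        · have h2 : (ends a).2 ≠ v := fun h' => hl (Prod.ext h h')
          have h2Z : (ends a).2 ∈ Z := by
            by_contra hc; exact hne ⟨h ▸ hvZ, hc⟩
          simp [dlt, ind, h, h2, h2Z, hvZ]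
        · have h2 : (ends a).1 ≠ v := fun h' => hl (Prod.ext h' h)
          have h2Z : (ends a).1 ∈ Z := by
            by_contra hc; exact hne ⟨hc, h ▸ hvZ⟩
          simp [dlt, ind, h, h2, h2Z, hvZ]
      · rw [if_neg hae]
        by_cases a1 : (ends a).1 ∈ Z <;> by_cases a2 : (ends a).2 ∈ Z <;>
          by_cases b1 : (ends a).1 = v <;> by_cases b2 : (ends a).2 = v <;>
          simp_all [dlt, ind]
    · rw [if_neg ha]
      rw [mem_star hv, not_or] at ha
      simp [dlt, ind, ha.1, ha.2]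
  have hs := Finset.sum_le_sum fun a (_ : a ∈ (univ : Finset E)) => hdiff a
  rw [Finset.sum_sub_distrib, ← cut_eq, ← cut_eq, Finset.sum_ite_mem, Finset.univ_inter] at hs
  have hsum : ∑ a ∈ star ends v, (if a = e then (-1 : ℤ) else 1) = 0 := by
    rw [Finset.sum_congr rfl fun a _ =>
      show (if a = e then (-1 : ℤ) else 1) = 1 - if a = e then 2 else 0 by split_ifs <;> norm_num,
      Finset.sum_sub_distrib, Finset.sum_ite_eq', if_pos ((mem_star hv).mpr he)]
    simp [card_star hv]
  rw [hsum] at hs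
  have := mul_le_mul_of_nonneg_right (show (LabGraph.cut ends (insert v Z) : ℤ)
    ≤ LabGraph.cut ends Z by linarith) hpos.le
  linarith

theorem eq_of_extremal_twists (hc : LabGraph.Connected ends)
    (hpos : 0 < LabGraph.canDeg ends w univ) (d d' : V → ℤ)
    (hBI : LabGraph.SatisfiesBI ends w d)
    (hone : ∀ v : V, LabGraph.IsExceptional ends w v → d v = 1)
    (hone' : ∀ v : V, LabGraph.IsExceptional ends w v → d' v = 1)
    (hstrict : ∀ Y : Finset V, Y.Nonempty → Y ≠ univ →
      defect ends w d Y = (LabGraph.cut ends Y : ℤ) * LabGraph.canDeg ends w univ →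
      ∀ e : E, (((ends e).1 ∈ Y ∧ (ends e).2 ∉ Y) ∨ ((ends e).1 ∉ Y ∧ (ends e).2 ∈ Y)) →
        (LabGraph.IsExceptional ends w (ends e).1 ∨ LabGraph.IsExceptional ends w (ends e).2))
    {ι : Type*} [Fintype ι] (Z : ι → Finset V)
    (hext : ∀ i, defect ends w d (Z i) = (LabGraph.cut ends (Z i) : ℤ) * LabGraph.canDeg ends w univ)
    (hsum : ∀ v : V, d' v = d v + ∑ i, LabGraph.twist ends (ind (Z i)) v) :
    d = d' := by
  have key : ∀ i, Z i = ∅ ∨ Z i = univ := by
    intro i
    by_contra hcon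
    rw [not_or] at hcon
    obtain ⟨hne, hu⟩ := hcon
    obtain ⟨a, ha⟩ := Finset.nonempty_iff_ne_empty.mpr hne
    obtain ⟨b, hb⟩ : ∃ b, b ∉ Z i := by
      by_contra hh; push Not at hh; exact hu (Finset.eq_univ_iff_forall.mpr hh)
    obtain ⟨e, he⟩ := exists_crossing hc (· ∈ Z i) ha hb
    have hexc := hstrict (Z i) ⟨a, ha⟩ hu (hext i) e he
    have main : ∀ v, LabGraph.IsExceptional ends w v →
        ((ends e).1 = v ∨ (ends e).2 = v) → False := by
      intro v hv hev
      have hvi : v ∈ Z i := by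
        by_contra hvi
        have := exc_nbr_notMem hBI hpos hv (hone v hv) (hext i) hvi hev
        tauto
      have hterm : ∀ j a, (if (ends a).1 = v then ind (Z j) (ends a).2 - ind (Z j) (ends a).1 else 0) +
          (if (ends a).2 = v then ind (Z j) (ends a).1 - ind (Z j) (ends a).2 else 0) ≤ 0 := by
        intro j a
        by_cases hvj : v ∈ Z j
        · have := ind_mem_zero_one (Z j) (ends a).1
          have := ind_mem_zero_one (Z j) (ends a).2
          have : ind (Z j) v = 1 := by simp [ind, hvj]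
          split_ifs <;> simp_all <;> omega
        · by_cases hav : (ends a).1 = v ∨ (ends a).2 = v
          · have := exc_nbr_notMem hBI hpos hv (hone v hv) (hext j) hvj hav
            simp [ind, this.1, this.2]
          · rw [not_or] at hav; simp [hav.1, hav.2]
      have hle : ∀ j, LabGraph.twist ends (ind (Z j)) v ≤ 0 := fun j =>
        Finset.sum_nonpos fun a _ => hterm j a
      have hlt : LabGraph.twist ends (ind (Z i)) v < 0 := by
        refine (Finset.sum_lt_sum (fun a _ => hterm i a) ⟨e, mem_univ e, ?_⟩).trans_le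
          (le_of_eq Finset.sum_const_zero)
        rcases hev with h | h <;> rcases he with h' | h' <;>
          (have hl := hv.2.1 e; simp_all [ind, Prod.ext_iff])
      have hneg : ∑ j, LabGraph.twist ends (ind (Z j)) v < 0 :=
        (Finset.sum_lt_sum (fun j _ => hle j) ⟨i, mem_univ i, hlt⟩).trans_le
          (le_of_eq Finset.sum_const_zero)
      have := hsum v
      rw [hone v hv, hone' v hv] at this
      linarith
    rcases hexc with h | h
    · exact main _ h (Or.inl rfl)
    · exact main _ h (Or.inr rfl)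
  funext v
  rw [hsum, Finset.sum_eq_zero fun i _ => ?_, add_zero]
  rcases key i with h | h <;> simp [h, LabGraph.twist, ind]

theorem satisfiesBI_pullback (hpos : 0 < LabGraph.canDeg ends w univ)
    (hq : ∀ e : E, (ends e).1 ≠ (ends e).2 →
      ¬ (LabGraph.IsExceptional ends w (ends e).1 ∧ LabGraph.IsExceptional ends w (ends e).2))
    (S : Finset V) (hS : ∀ v ∈ S, LabGraph.IsExceptional ends w v)
    (d : V → ℤ) (hzero : ∀ v ∈ S, d v = 0)
    (hBI : ∀ W : Finset V, Disjoint W S →
      defect ends w d (univ.filter (fun v : V => v ∈ W ∨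
        (v ∈ S ∧ ∀ e : E, ((ends e).1 = v → (ends e).2 ∈ W) ∧ ((ends e).2 = v → (ends e).1 ∈ W))))
      ≤ (LabGraph.cut ends (univ.filter (fun v : V => v ∈ W ∨
        (v ∈ S ∧ ∀ e : E, ((ends e).1 = v → (ends e).2 ∈ W) ∧ ((ends e).2 = v → (ends e).1 ∈ W)))) : ℤ)
        * LabGraph.canDeg ends w univ) :
    LabGraph.SatisfiesBI ends w d := by
  refine (satisfiesBI_iff d).mpr fun Y => ?_
  have hW : Disjoint (Y \ S) S := Finset.sdiff_disjoint
  have h := hBI (Y \ S) hW
  set U := univ.filter (fun v : V => v ∈ Y \ S ∨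
    (v ∈ S ∧ ∀ e : E, ((ends e).1 = v → (ends e).2 ∈ Y \ S) ∧ ((ends e).2 = v → (ends e).1 ∈ Y \ S)))
    with hU
  have hUS : ∀ v, v ∉ S → (v ∈ U ↔ v ∈ Y) := fun v hv => by simp [hU, hv]
  have hdrop : ∀ (g : V → ℤ), (∀ v ∈ S, g v = 0) → ∑ v ∈ U, g v = ∑ v ∈ Y, g v := fun g hg => by
    rw [← Finset.sum_filter_of_ne (p := fun v => v ∉ S) (fun v _ hne hv => hne (hg v hv)),
      ← Finset.sum_filter_of_ne (s := Y) (p := fun v => v ∉ S) (fun v _ hne hv => hne (hg v hv))]
    refine Finset.sum_congr ?_ fun _ _ => rfl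
    ext v
    simp only [Finset.mem_filter]
    exact ⟨fun h => ⟨(hUS v h.2).mp h.1, h.2⟩, fun h => ⟨(hUS v h.2).mpr h.1, h.2⟩⟩
  have hdef : defect ends w d U = defect ends w d Y := by
    simp only [defect, LabGraph.canDeg]
    rw [hdrop d hzero, hdrop _ fun v hv => canDeg_exc (hS v hv)]
  have hcut : (LabGraph.cut ends U : ℤ) ≤ LabGraph.cut ends Y := by
    let R := univ.filter fun a : E => (ends a).1 ∉ S ∧ (ends a).2 ∉ S
    have hdisj : (S : Set V).PairwiseDisjoint (star ends) := by
      intro u hu v hv hne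
      rw [Function.onFun, Finset.disjoint_left]
      intro a ha ha'
      rw [mem_star (hS u hu)] at ha
      rw [mem_star (hS v hv)] at ha'
      rcases ha with h1 | h1 <;> rcases ha' with h2 | h2
      · exact hne (h1.symm.trans h2)
      · exact hq a (by rw [h1, h2]; exact hne) ⟨h1 ▸ hS u hu, h2 ▸ hS v hv⟩
      · exact hq a (by rw [h1, h2]; exact Ne.symm hne) ⟨h2 ▸ hS v hv, h1 ▸ hS u hu⟩
      · exact hne (h1.symm.trans h2)
    have hsplit : ∀ g : E → ℤ, ∑ a, g a = ∑ a ∈ R, g a + ∑ v ∈ S, ∑ a ∈ star ends v, g a := fun g => by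
      rw [← Finset.sum_biUnion hdisj,
        ← Finset.sum_filter_add_sum_filter_not univ (fun a : E => (ends a).1 ∉ S ∧ (ends a).2 ∉ S)]
      congr 2
      ext a
      simp only [Finset.mem_filter, Finset.mem_univ, true_and, Finset.mem_biUnion]
      constructor
      · intro ha
        by_cases h1 : (ends a).1 ∈ S
        · exact ⟨_, h1, (mem_star (hS _ h1)).mpr (Or.inl rfl)⟩
        · have h2 : (ends a).2 ∈ S := by by_contra h2; exact ha ⟨h1, h2⟩
          exact ⟨_, h2, (mem_star (hS _ h2)).mpr (Or.inr rfl)⟩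
      · rintro ⟨v, hv, ha⟩ ⟨h1, h2⟩
        rcases (mem_star (hS v hv)).mp ha with h | h
        · exact h1 (h ▸ hv)
        · exact h2 (h ▸ hv)
    rw [cut_eq, cut_eq, hsplit, hsplit]
    refine add_le_add (Finset.sum_le_sum fun a ha => ?_) (Finset.sum_le_sum fun v hv => ?_)
    · simp only [R, Finset.mem_filter] at ha
      simp [dlt, ind, hUS _ ha.2.1, hUS _ ha.2.2]
    · have hother : ∀ a ∈ star ends v,
          ((ends a).1 = v ∧ (ends a).2 ∉ S) ∨ ((ends a).2 = v ∧ (ends a).1 ∉ S) := fun a ha => by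
        have hl := (hS v hv).2.1 a
        rcases (mem_star (hS v hv)).mp ha with h' | h'
        · refine Or.inl ⟨h', fun h2 => hq a ?_ ⟨h' ▸ hS v hv, hS _ h2⟩⟩
          exact fun he => hl (Prod.ext h' (he ▸ h'))
        · refine Or.inr ⟨h', fun h2 => hq a ?_ ⟨hS _ h2, h' ▸ hS v hv⟩⟩
          exact fun he => hl (Prod.ext (he.trans h') h')
      obtain ⟨a, b, hab, hs⟩ := Finset.card_eq_two.mp (card_star (hS v hv))
      by_cases hvU : v ∈ U
      · refine (Finset.sum_nonpos fun c hc => ?_).trans (Finset.sum_nonneg fun c _ => abs_nonneg _)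
        have hvU' : ∀ e : E, ((ends e).1 = v → (ends e).2 ∈ Y \ S) ∧ ((ends e).2 = v → (ends e).1 ∈ Y \ S) := by
          have := (Finset.mem_filter.mp hvU).2
          rcases this with h1 | h1
          · exact absurd hv (Finset.mem_sdiff.mp h1).2
          · exact h1.2
        rcases hother c hc with ⟨h1, h2⟩ | ⟨h1, h2⟩
        · have := Finset.mem_sdiff.mp ((hvU' c).1 h1)
          simp [dlt, ind, h1, hvU, (hUS _ h2).mpr this.1]
        · have := Finset.mem_sdiff.mp ((hvU' c).2 h1)
          simp [dlt, ind, h1, hvU, (hUS _ h2).mpr this.1]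
      · have hex : ∃ c ∈ star ends v, ((ends c).1 = v ∧ (ends c).2 ∉ Y) ∨ ((ends c).2 = v ∧ (ends c).1 ∉ Y) := by
          by_contra hne
          push Not at hne
          refine hvU (Finset.mem_filter.mpr ⟨mem_univ v, Or.inr ⟨hv, fun c => ⟨fun h1 => ?_, fun h1 => ?_⟩⟩⟩)
          · have hc := (mem_star (hS v hv)).mpr (Or.inl h1)
            refine Finset.mem_sdiff.mpr ⟨(hne c hc).1 h1, ?_⟩
            rcases hother c hc with h2 | h2
            · exact h2.2
            · exact absurd (Prod.ext h1 h2.1) ((hS v hv).2.1 c)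
          · have hc := (mem_star (hS v hv)).mpr (Or.inr h1)
            refine Finset.mem_sdiff.mpr ⟨(hne c hc).2 h1, ?_⟩
            rcases hother c hc with h2 | h2
            · exact absurd (Prod.ext h2.1 h1) ((hS v hv).2.1 c)
            · exact h2.2
        rw [hs, Finset.sum_pair hab, Finset.sum_pair hab]
        have ha : a ∈ star ends v := by simp [hs]
        have hb : b ∈ star ends v := by simp [hs]
        obtain ⟨c, hc, hcY⟩ := hex
        have hc' : c = a ∨ c = b := by simpa [hs] using hc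
        by_cases hvY : v ∈ Y <;>
          rcases hother a ha with ⟨a1, a2⟩ | ⟨a1, a2⟩ <;>
          rcases hother b hb with ⟨b1, b2⟩ | ⟨b1, b2⟩ <;>
          simp only [dlt, ind, a1, b1, hvU, hvY, hUS _ a2, hUS _ b2, if_true, if_false] <;>
          grind
  rw [← hdef]
  exact h.trans (mul_le_mul_of_nonneg_right hcut hpos.le)

end GrothLib.LabGraph
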