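import Groth.Prelude.Def_DualGr
import Mathlib.Data.ZMod.Basic
import Mathlib.Algebra.Order.BigOperators.Group.Finset
import Mathlib.Tactic.LinearCombination

/-!
# Cycles, cuts, potentials and circuits in finite multigraphs
-/

universe u

namespace GrothLib.LabGraph

open Finset

set_option linter.unusedSectionVars false

variable {V E : Type u} (ends : E → V × V)

/-- Difference of a vertex function along an edge (head minus tail). -/
def dlt (φ : V → ℤ) (e : E) : ℤ := φ (ends e).2 - φ (ends e).1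

theorem dlt_add (φ ψ : V → ℤ) (e : E) :
    dlt ends (φ + ψ) e = dlt ends φ e + dlt ends ψ e := by simp [dlt]; ring

theorem dlt_smul (c : ℤ) (φ : V → ℤ) (e : E) : dlt ends (c • φ) e = c * dlt ends φ e := by
  simp [dlt]; ring

theorem dlt_sub (φ ψ : V → ℤ) (e : E) :
    dlt ends (φ - ψ) e = dlt ends φ e - dlt ends ψ e := by simp [dlt]; ring

theorem dlt_const (c : ℤ) (e : E) : dlt ends (fun _ => c) e = 0 := by simp [dlt]

theorem dlt_sum {ι : Type*} (s : Finset ι) (g : ι → V → ℤ) (e : E) :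
    dlt ends (∑ i ∈ s, g i) e = ∑ i ∈ s, dlt ends (g i) e := by
  simp [dlt, Finset.sum_apply, Finset.sum_sub_distrib]

/-- Linked through edges of `D`. -/
abbrev Linked (D : Finset E) (a b : V) : Prop := Relation.EqvGen (DualGr.CtrRel ends D) a b

variable {ends}

theorem Linked.of_mem {D : Finset E} {e : E} (he : e ∈ D) : Linked ends D (ends e).1 (ends e).2 :=
  .rel _ _ ⟨e, he, rfl⟩

theorem Linked.induct {D D' : Finset E}
    (h : ∀ e ∈ D, Linked ends D' (ends e).1 (ends e).2) {a b : V} (hl : Linked ends D a b) :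
    Linked ends D' a b := by
  induction hl with
  | rel x y hxy => obtain ⟨e, he, hee⟩ := hxy; simpa [hee] using h e he
  | refl x => exact .refl x
  | symm x y _ ih => exact ih.symm _ _
  | trans x y z _ _ ih1 ih2 => exact ih1.trans _ _ _ ih2

theorem Linked.mono {D D' : Finset E} (h : D ⊆ D') {a b : V} (hl : Linked ends D a b) :
    Linked ends D' a b := hl.induct fun _ he => Linked.of_mem (h he)

theorem Linked.apply_eq {D : Finset E} {α : Type*} (g : V → α)
    (h : ∀ e ∈ D, g (ends e).1 = g (ends e).2) {a b : V} (hl : Linked ends D a b) : g a = g b := by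
  induction hl with
  | rel x y hxy => obtain ⟨e, he, hee⟩ := hxy; simpa [hee] using h e he
  | refl x => rfl
  | symm x y _ ih => exact ih.symm
  | trans x y z _ _ ih1 ih2 => exact ih1.trans ih2

theorem linked_univ [Fintype E] (hc : LabGraph.Connected ends) (a b : V) :
    Linked ends univ a b := by
  induction hc.2 a b with
  | refl => exact .refl a
  | tail _ hxy ih =>
    refine ih.trans _ _ _ ?_
    obtain ⟨e, he | he⟩ := hxy
    · exact .rel _ _ ⟨e, mem_univ e, he⟩
    · exact (Relation.EqvGen.rel _ _ ⟨e, mem_univ e, he⟩).symm _ _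

theorem eq_of_dlt_eq_zero [Fintype E] (hc : LabGraph.Connected ends) (φ : V → ℤ)
    (h : ∀ e, dlt ends φ e = 0) (a b : V) : φ a = φ b :=
  (linked_univ hc a b).apply_eq φ fun e _ => (sub_eq_zero.mp (h e)).symm

section Cycles

variable [Fintype E]

variable (ends) in
/-- Pairing of an edge vector with the differential of a vertex function. -/
def pair (γ : E → ℤ) (φ : V → ℤ) : ℤ := ∑ e, γ e * dlt ends φ e

variable (ends) in
/-- A cycle, defined by adjointness. -/
def IsCyc (γ : E → ℤ) : Prop := ∀ φ : V → ℤ, pair ends γ φ = 0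

theorem pair_eq_boundary [Fintype V] [DecidableEq V] [DecidableEq E] (γ : E → ℤ) (φ : V → ℤ) :
    pair ends γ φ = ∑ v, LabGraph.boundary ends γ v * φ v := by
  simp only [pair, LabGraph.boundary, Finset.sum_mul, sub_mul, ite_mul, zero_mul]
  rw [Finset.sum_comm]
  refine Finset.sum_congr rfl fun e _ => ?_
  rw [Finset.sum_sub_distrib]
  simp [dlt]; ring

theorem isCyc_iff_boundary [Fintype V] [DecidableEq V] [DecidableEq E] (γ : E → ℤ) :
    IsCyc ends γ ↔ ∀ v, LabGraph.boundary ends γ v = 0 := by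
  constructor
  · intro h v
    have := h (fun u => if u = v then 1 else 0)
    rw [pair_eq_boundary] at this
    simpa using this
  · intro h φ
    rw [pair_eq_boundary]
    simp [h]

theorem pair_add (γ η : E → ℤ) (φ : V → ℤ) :
    pair ends (γ + η) φ = pair ends γ φ + pair ends η φ := by
  simp [pair, add_mul, Finset.sum_add_distrib]

theorem pair_sub (γ η : E → ℤ) (φ : V → ℤ) :
    pair ends (γ - η) φ = pair ends γ φ - pair ends η φ := by
  simp [pair, sub_mul, Finset.sum_sub_distrib]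

theorem pair_smul (c : ℤ) (γ : E → ℤ) (φ : V → ℤ) :
    pair ends (c • γ) φ = c * pair ends γ φ := by
  simp [pair, Finset.mul_sum, mul_assoc]

theorem pair_single [DecidableEq E] (e : E) (φ : V → ℤ) :
    pair ends (Pi.single e 1) φ = dlt ends φ e := by
  simp [pair, Pi.single_apply]

theorem exists_flow [DecidableEq E] {D : Finset E} {a b : V} (hl : Linked ends D a b) :
    ∃ γ : E → ℤ, (∀ e, e ∉ D → γ e = 0) ∧ ∀ φ, pair ends γ φ = φ b - φ a := by
  induction hl with
  | rel x y hxy =>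
    obtain ⟨e, he, hee⟩ := hxy
    refine ⟨Pi.single e 1, fun e' h' => Pi.single_eq_of_ne (show e' ≠ e from fun h => h' (h ▸ he)) _, fun φ => ?_⟩
    rw [pair_single]; simp [dlt, hee]
  | refl x => exact ⟨0, fun _ _ => rfl, fun φ => by simp [pair]⟩
  | symm x y _ ih =>
    obtain ⟨γ, h0, hp⟩ := ih
    exact ⟨(-1 : ℤ) • γ, fun e he => by simp [h0 e he], fun φ => by rw [pair_smul, hp]; ring⟩
  | trans x y z _ _ ih1 ih2 =>
    obtain ⟨γ, h0, hp⟩ := ih1
    obtain ⟨η, h0', hp'⟩ := ih2
    exact ⟨γ + η, fun e he => by simp [h0 e he, h0' e he],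
      fun φ => by rw [pair_add, hp, hp']; ring⟩

/-- A vector orthogonal to all cycles is a differential. -/
theorem exists_potential [DecidableEq E] (hc : LabGraph.Connected ends) (x : E → ℤ)
    (hx : ∀ γ, IsCyc ends γ → ∑ e, γ e * x e = 0) (v₀ : V) :
    ∃ φ : V → ℤ, (∀ e, dlt ends φ e = x e) ∧ φ v₀ = 0 := by
  choose γ _ hγ using fun v => exists_flow (linked_univ hc v₀ v)
  refine ⟨fun v => ∑ e, γ v e * x e, fun e => ?_, hx (γ v₀) fun φ => by rw [hγ]; ring⟩
  have h := hx (γ (ends e).2 - γ (ends e).1 - Pi.single e 1) fun φ => by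
    rw [pair_sub, pair_sub, hγ, hγ, pair_single]; simp [dlt]
  simp only [Pi.sub_apply, sub_mul, Finset.sum_sub_distrib, Pi.single_apply, ite_mul, one_mul,
    zero_mul, Finset.sum_ite_eq', Finset.mem_univ, if_true] at h
  simp only [dlt]; linarith

/-- Either `e` lies on a cycle inside `D`, or it is a cut of `D`. -/
theorem cycle_or_cut [DecidableEq E] (D : Finset E) {e : E} (he : e ∈ D) :
    (∃ γ, IsCyc ends γ ∧ (∀ e', e' ∉ D → γ e' = 0) ∧ γ e = 1) ∨
      ∃ ψ : V → ℤ, (∀ v, ψ v = 0 ∨ ψ v = 1) ∧ ∀ e' ∈ D, dlt ends ψ e' = if e' = e then 1 else 0 := by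
  classical
  by_cases h : Linked ends (D.erase e) (ends e).2 (ends e).1
  · left
    obtain ⟨γ, h0, hp⟩ := exists_flow h
    refine ⟨γ + Pi.single e 1, fun φ => ?_, fun e' he' => ?_, ?_⟩
    · rw [pair_add, hp, pair_single, dlt]; ring
    · have : e' ≠ e := fun h => he' (h ▸ he)
      simp [h0 e' (fun h => he' (Finset.mem_of_mem_erase h)), this]
    · simp [h0 e (Finset.notMem_erase e D)]
  · right
    refine ⟨fun v => if Linked ends (D.erase e) (ends e).2 v then 1 else 0,
      fun v => by by_cases hv : Linked ends (D.erase e) (ends e).2 v <;> simp [hv], fun e' he' => ?_⟩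
    by_cases hee : e' = e
    · subst hee
      simp [dlt, h, Relation.EqvGen.refl]
    · have hl : Linked ends (D.erase e) (ends e').1 (ends e').2 :=
        Linked.of_mem (Finset.mem_erase.mpr ⟨hee, he'⟩)
      have hiff : Linked ends (D.erase e) (ends e).2 (ends e').1 ↔
          Linked ends (D.erase e) (ends e).2 (ends e').2 :=
        ⟨fun h1 => h1.trans _ _ _ hl, fun h1 => h1.trans _ _ _ (hl.symm _ _)⟩
      simp [dlt, hee, hiff]

variable (ends) in
/-- Every vertex meets `C` in an even number of edge ends. -/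
def EvenSet [Fintype V] [DecidableEq V] [DecidableEq E] (C : Finset E) : Prop :=
  ∀ v, Even (LabGraph.endCount ends C v)

variable [Fintype V] [DecidableEq V] [DecidableEq E]

theorem sum_endCount_mul (C : Finset E) (φ : V → ℤ) :
    ∑ v, (LabGraph.endCount ends C v : ℤ) * φ v = ∑ e ∈ C, (φ (ends e).1 + φ (ends e).2) := by
  simp only [LabGraph.endCount, Nat.cast_sum, Nat.cast_add, Nat.cast_ite, Nat.cast_one,
    Nat.cast_zero, Finset.sum_mul, add_mul, ite_mul, one_mul, zero_mul]
  rw [Finset.sum_comm]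
  refine Finset.sum_congr rfl fun e _ => ?_
  rw [Finset.sum_add_distrib]
  simp

/-- Every edge of an even set lies on a cycle inside it. -/
theorem EvenSet.exists_cycle {C : Finset E} (hC : EvenSet ends C) {e : E} (he : e ∈ C) :
    ∃ γ, IsCyc ends γ ∧ (∀ e', e' ∉ C → γ e' = 0) ∧ γ e = 1 := by
  refine (cycle_or_cut C he).resolve_right ?_
  rintro ⟨ψ, -, hψ⟩
  have h2 : (2 : ℤ) ∣ ∑ v, (LabGraph.endCount ends C v : ℤ) * ψ v :=
    Finset.dvd_sum fun v _ => Dvd.dvd.mul_right (by exact_mod_cast (hC v).two_dvd) _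
  have h3 : ∑ e' ∈ C, dlt ends ψ e' = 1 := by
    rw [Finset.sum_congr rfl hψ]; simp [he]
  have h4 : ∑ e' ∈ C, (ψ (ends e').1 + ψ (ends e').2) = 1 + 2 * ∑ e' ∈ C, ψ (ends e').1 := by
    rw [← h3, Finset.mul_sum, ← Finset.sum_add_distrib]
    exact Finset.sum_congr rfl fun e' _ => by simp [dlt]; ring
  rw [sum_endCount_mul, h4] at h2
  omega

/-- Every edge of the support of a cycle lies on a `±1` cycle inside the support. -/
theorem IsCyc.exists_cycle {γ : E → ℤ} (hγ : IsCyc ends γ) {e : E} (he : γ e ≠ 0) :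
    ∃ η, IsCyc ends η ∧ (∀ e', γ e' = 0 → η e' = 0) ∧ η e = 1 := by
  rcases cycle_or_cut (ends := ends) (univ.filter fun e' => γ e' ≠ 0) (e := e) (by simpa using he)
    with ⟨η, h1, h2, h3⟩ | ⟨ψ, -, hψ⟩
  · exact ⟨η, h1, fun e' h' => h2 e' (by simp [h']), h3⟩
  · exfalso
    have h : ∑ e', γ e' * dlt ends ψ e' = γ e := by
      rw [Finset.sum_eq_single e (fun e' _ hne => ?_) (by simp)]
      · rw [hψ e (by simpa using he), if_pos rfl, mul_one]
      · by_cases h0 : γ e' = 0
        · simp [h0]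
        · rw [hψ e' (by simpa using h0), if_neg hne, mul_zero]
    exact he (h ▸ hγ ψ)

theorem IsCyc.evenSet_odd {γ : E → ℤ} (hγ : IsCyc ends γ) :
    EvenSet ends (univ.filter fun e => Odd (γ e)) := by
  intro v
  rw [← ZMod.natCast_eq_zero_iff_even]
  have h := congrArg (Int.cast : ℤ → ZMod 2) (hγ fun u => if u = v then 1 else 0)
  simp only [pair, Int.cast_sum, Int.cast_mul, Int.cast_zero] at h
  rw [LabGraph.endCount, Nat.cast_sum, Finset.sum_filter]
  refine Eq.trans ?_ h
  refine Finset.sum_congr rfl fun e _ => ?_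
  have key : ∀ n : ℤ, (n : ZMod 2) = if Odd n then 1 else 0 := by
    intro n
    by_cases ho : Odd n
    · rw [if_pos ho]; exact ZMod.intCast_eq_one_iff_odd.mpr ho
    · rw [if_neg ho]; exact ZMod.intCast_eq_zero_iff_even.mpr (Int.not_odd_iff_even.mp ho)
  rw [key (γ e)]
  split
  · simp only [dlt, one_mul]
    by_cases h1 : (ends e).1 = v <;> by_cases h2 : (ends e).2 = v <;> simp [h1, h2] <;> decide
  · simp

theorem EvenSet.exists_circuit {C : Finset E} (hne : C.Nonempty) (hC : EvenSet ends C) :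
    ∃ Z ⊆ C, LabGraph.IsCircuit ends Z := by
  induction C using Finset.strongInductionOn with
  | _ C ih =>
    by_cases h : ∃ C', C' ⊂ C ∧ C'.Nonempty ∧ EvenSet ends C'
    · obtain ⟨C', hs, hne', he'⟩ := h
      obtain ⟨Z, hZ, hc⟩ := ih C' hs hne' he'
      exact ⟨Z, hZ.trans hs.subset, hc⟩
    · refine ⟨C, Finset.Subset.refl C, hne, hC, fun C' hs hne' => ?_⟩
      by_contra hc
      push Not at hc
      exact h ⟨C', hs, hne', hc⟩

theorem IsCyc.exists_circuit {γ : E → ℤ} (hγ : IsCyc ends γ) {e : E} (he : γ e ≠ 0) :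
    ∃ Z, LabGraph.IsCircuit ends Z ∧ ∀ e' ∈ Z, γ e' ≠ 0 := by
  obtain ⟨η, hη, h0, h1⟩ := hγ.exists_cycle he
  obtain ⟨Z, hZ, hc⟩ := hη.evenSet_odd.exists_circuit ⟨e, by simp [h1]⟩
  refine ⟨Z, hc, fun e' he' h' => ?_⟩
  have := hZ he'
  simp [h0 e' h'] at this

/-- A set containing no circuit has a cut at each of its edges. -/
theorem exists_cut {F : Finset E} (hF : ∀ Z, LabGraph.IsCircuit ends Z → ¬ Z ⊆ F) {e : E}
    (he : e ∈ F) :
    ∃ ψ : V → ℤ, (∀ v, ψ v = 0 ∨ ψ v = 1) ∧ ∀ e' ∈ F, dlt ends ψ e' = if e' = e then 1 else 0 := by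
  refine (cycle_or_cut F he).resolve_left ?_
  rintro ⟨γ, hγ, h0, h1⟩
  obtain ⟨Z, hc, hZ⟩ := hγ.exists_circuit (e := e) (by simp [h1])
  exact hF Z hc fun e' he' => by_contra fun h => hZ e' he' (h0 e' h)

theorem IsCyc.sub_smul {γ η : E → ℤ} (hγ : IsCyc ends γ) (hη : IsCyc ends η) (c : ℤ) :
    IsCyc ends (γ - c • η) := fun φ => by rw [pair_sub, pair_smul, hγ φ, hη φ]; ring

/-- Cycles are generated by circuit cycles. -/
theorem IsCyc.induction {P : (E → ℤ) → Prop} {γ : E → ℤ} (hγ : IsCyc ends γ) (h0 : P 0)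
    (hadd : ∀ (δ : E → ℤ) (Z : Finset E) (η : E → ℤ) (c : ℤ), LabGraph.IsCircuit ends Z →
      IsCyc ends η → (∀ e, e ∉ Z → η e = 0) → P δ → P (δ + c • η)) : P γ := by
  induction hs : (univ.filter fun e => γ e ≠ 0) using Finset.strongInductionOn generalizing γ with
  | _ S ih =>
    by_cases hz : γ = 0
    · exact hz ▸ h0
    · obtain ⟨e, he⟩ := Function.ne_iff.mp hz
      obtain ⟨Z, hc, hZ⟩ := hγ.exists_circuit (e := e) he
      obtain ⟨e', he'⟩ := hc.1
      obtain ⟨η, hη, hsupp, hη1⟩ := EvenSet.exists_cycle hc.2.1 he'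
      have hlt : (univ.filter fun a => (γ - γ e' • η) a ≠ 0) ⊂ S := by
        subst hs
        rw [Finset.ssubset_iff_of_subset]
        · exact ⟨e', by simpa using hZ e' he', by simp [hη1]⟩
        · intro a ha
          simp only [Finset.mem_filter, Finset.mem_univ, true_and] at ha ⊢
          intro h
          have : a ∉ Z := fun h' => hZ a h' h
          simp [h, hsupp a this] at ha
      have := hadd _ Z η (γ e') hc hη hsupp (ih _ hlt (hγ.sub_smul hη _) rfl)
      simpa using this

end Cycles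

section Cartier

variable [Fintype E] [Fintype V] [DecidableEq V] [DecidableEq E]

theorem mdeg_eq {l : E → ℕ} {φ : V → ℤ} (h : LabGraph.IsCartier ends l φ) (v : V) :
    LabGraph.mdeg ends l φ v = -LabGraph.boundary ends (fun e => dlt ends φ e / (l e : ℤ)) v := by
  simp only [LabGraph.mdeg, LabGraph.boundary, dlt, ← Finset.sum_neg_distrib]
  refine Finset.sum_congr rfl fun e _ => ?_
  rw [show φ (ends e).1 - φ (ends e).2 = -(φ (ends e).2 - φ (ends e).1) by ring,
    Int.neg_ediv_of_dvd (by rw [← dvd_neg, neg_sub]; exact h e)]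
  split_ifs <;> ring

theorem isCartier_iff {l : E → ℕ} {φ : V → ℤ} :
    LabGraph.IsCartier ends l φ ↔ ∀ e, (l e : ℤ) ∣ dlt ends φ e :=
  forall_congr' fun _ => by rw [dlt, dvd_sub_comm]

end Cartier

end GrothLib.LabGraph
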