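import Groth.Agent.Lib.LabGraph.Basic
import Mathlib.Algebra.BigOperators.Intervals
import Mathlib.RingTheory.Coprime.Lemmas
import Mathlib.RingTheory.Int.Basic
import Mathlib.Algebra.GCDMonoid.Nat

/-!
# Total blow-up and circuit-coprimality
-/

universe u

namespace GrothLib.LabGraph

open Finset

set_option linter.unusedSectionVars false

variable {V E : Type u} [Fintype E] [Fintype V] [DecidableEq V] [DecidableEq E] {ends : E → V × V}
  {l : E → ℕ}

theorem exists_prime_of_not_one {l : E → ℕ} {C : Finset E} (h : C.gcd l ≠ 1) :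
    ∃ p : ℕ, p.Prime ∧ ∀ e ∈ C, p ∣ l e := by
  obtain ⟨p, hp, hd⟩ := Nat.exists_prime_and_dvd h
  exact ⟨p, hp, fun e he => hd.trans (Finset.gcd_dvd he)⟩

/-- Circuit-coprimality is surjectivity of the differential onto `⊕ ℤ / l e`. -/
theorem isCircuitCoprime_iff_surj :
    LabGraph.IsCircuitCoprime ends l ↔
      ∀ T : E → ℤ, ∃ φ : V → ℤ, ∀ e, (l e : ℤ) ∣ dlt ends φ e - T e := by
  constructor
  · intro hcp
    let S : E → Submodule ℤ ℤ := fun e =>
      { carrier := {c | ∃ φ : V → ℤ, ∀ e', (l e' : ℤ) ∣ dlt ends φ e' - if e' = e then c else 0}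
        add_mem' := by
          rintro a b ⟨φ, hφ⟩ ⟨ψ, hψ⟩
          refine ⟨φ + ψ, fun e' => ?_⟩
          have := dvd_add (hφ e') (hψ e')
          rw [show dlt ends (φ + ψ) e' - (if e' = e then a + b else 0)
            = (dlt ends φ e' - if e' = e then a else 0) + (dlt ends ψ e' - if e' = e then b else 0) by
              rw [dlt_add]; split_ifs <;> ring]
          exact this
        zero_mem' := ⟨0, fun e' => by simp [dlt]⟩
        smul_mem' := by
          rintro c a ⟨φ, hφ⟩
          refine ⟨c • φ, fun e' => ?_⟩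
          have := (hφ e').mul_left c
          rw [show dlt ends (c • φ) e' - (if e' = e then c • a else 0)
            = c * (dlt ends φ e' - if e' = e then a else 0) by
              rw [dlt_smul]; split_ifs <;> simp [mul_sub]]
          exact this }
    have hS : ∀ e, (1 : ℤ) ∈ S e := by
      intro e
      by_contra hne
      have htop : S e ≠ ⊤ := fun h => hne (h ▸ Submodule.mem_top)
      set n := Submodule.IsPrincipal.generator (S e : Ideal ℤ) with hn
      have hle : (l e : ℤ) ∈ S e := ⟨0, fun e' => by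
        by_cases h : e' = e
        · subst h; simp [dlt]
        · simp [dlt, h]⟩
      have hmem : ∀ c, c ∈ S e → n ∣ c := fun c hc =>
        (Submodule.IsPrincipal.mem_iff_generator_dvd (S e : Ideal ℤ)).mp hc
      have hn1 : n.natAbs ≠ 1 := by
        intro h
        exact hne ((Submodule.IsPrincipal.mem_iff_generator_dvd (S e : Ideal ℤ)).mpr
          (isUnit_iff_dvd_one.mp (Int.isUnit_iff_natAbs_eq.mpr h)))
      obtain ⟨p, hp, hpn⟩ := Nat.exists_prime_and_dvd hn1
      have hpn' : (p : ℤ) ∣ n := Int.natCast_dvd.mpr hpn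
      let F := univ.filter fun e' => p ∣ l e'
      have heF : e ∈ F := by
        simpa [F] using Int.natCast_dvd_natCast.mp (hpn'.trans (hmem _ hle))
      obtain ⟨ψ, -, hψ⟩ := exists_cut (ends := ends) (F := F) (fun Z hZ hsub => by
        have h1 := Finset.dvd_gcd (f := l) (s := Z) (a := p) fun e' he' => by
          simpa [F] using hsub he'
        rw [hcp Z hZ] at h1
        exact hp.one_lt.ne' (Nat.dvd_one.mp h1)) heF
      let m : ℤ := ∏ e' ∈ univ.filter (fun e' => ¬ p ∣ l e'), (l e' : ℤ)
      have hm : m ∈ S e := by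
        refine ⟨m • ψ, fun e' => ?_⟩
        rw [dlt_smul]
        by_cases h : p ∣ l e'
        · rw [hψ e' (by simp [F, h])]; simp
        · have hd : (l e' : ℤ) ∣ m := Finset.dvd_prod_of_mem _ (by simp [h])
          exact dvd_sub (hd.mul_right _) (by split <;> simp [hd])
      have hpm : (p : ℤ) ∣ m := hpn'.trans (hmem _ hm)
      obtain ⟨e', he', hd⟩ :=
        ((Nat.prime_iff_prime_int.mp hp).dvd_finsetProd_iff _).mp hpm
      exact (Finset.mem_filter.mp he').2 (Int.natCast_dvd_natCast.mp hd)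
    intro T
    choose φ hφ using hS
    refine ⟨∑ e, T e • φ e, fun e' => ?_⟩
    rw [dlt_sum]
    have : ∑ e, dlt ends (T e • φ e) e' - T e'
        = ∑ e, T e * (dlt ends (φ e) e' - if e' = e then 1 else 0) := by

      simp only [dlt_smul, mul_sub, Finset.sum_sub_distrib, mul_ite, mul_one, mul_zero,
        Finset.sum_ite_eq, Finset.mem_univ, if_true]
    rw [this]
    exact Finset.dvd_sum fun e _ => (hφ e e').mul_left _
  · intro h C hC
    by_contra hne
    obtain ⟨p, hp, hd⟩ := exists_prime_of_not_one hne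
    obtain ⟨e, he⟩ := hC.1
    obtain ⟨γ, hγ, h0, h1⟩ := EvenSet.exists_cycle hC.2.1 he
    obtain ⟨φ, hφ⟩ := h fun e' => if e' = e then 1 else 0
    have hsum : (p : ℤ) ∣ ∑ e', γ e' * (dlt ends φ e' - if e' = e then 1 else 0) := by
      refine Finset.dvd_sum fun e' _ => ?_
      by_cases h' : e' ∈ C
      · exact ((Int.natCast_dvd_natCast.mpr (hd e' h')).trans (hφ e')).mul_left _
      · simp [h0 e' h']
    have h2 : ∑ e', γ e' * dlt ends φ e' = 0 := hγ φ
    simp [mul_sub, Finset.sum_sub_distrib, h2, h1] at hsum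
    exact hp.one_lt.ne' (Nat.dvd_one.mp (Int.natCast_dvd_natCast.mp hsum))

/-! ## The blow-up -/

variable (hl : ∀ e, 0 < l e)

theorem pathVert_zero (e : E) :
    LabGraph.pathVert ends l e 0 = Sum.inl (ends e).1 := by simp [LabGraph.pathVert]

include hl in
theorem pathVert_last (e : E) : LabGraph.pathVert ends l e (l e) = Sum.inl (ends e).2 := by
  have := hl e
  simp [LabGraph.pathVert, (show l e ≠ 0 by omega)]

theorem pathVert_mid (e : E) {j : ℕ} (h : j + 1 < l e) :
    LabGraph.pathVert ends l e (j + 1) = Sum.inr ⟨e, ⟨j, by omega⟩⟩ := by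
  simp [LabGraph.pathVert, h]

/-- Value of a blow-up vertex function along the path of `e`. -/
def along (ends : E → V × V) (l : E → ℕ) (ψ : LabGraph.BlVert V E l → ℤ) (e : E) (j : ℕ) : ℤ :=
  ψ (LabGraph.pathVert ends l e j)

/-- Increment of a blow-up vertex function along the path of `e`. -/
def step (ends : E → V × V) (l : E → ℕ) (ψ : LabGraph.BlVert V E l → ℤ) (e : E) (j : ℕ) : ℤ :=
  along ends l ψ e (j + 1) - along ends l ψ e j

include hl in
theorem sum_step (ψ : LabGraph.BlVert V E l → ℤ) (e : E) :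
    ∑ j ∈ range (l e), step ends l ψ e j = dlt ends (fun v => ψ (Sum.inl v)) e := by
  unfold step
  rw [Finset.sum_range_sub (along ends l ψ e)]
  simp [along, dlt, pathVert_zero, pathVert_last hl]

theorem blow_mdeg (ψ : LabGraph.BlVert V E l → ℤ) (w : LabGraph.BlVert V E l) :
    LabGraph.mdeg (LabGraph.blEnds ends l) (fun _ => 1) ψ w = ∑ e, ∑ j ∈ range (l e),
      ((if LabGraph.pathVert ends l e j = w then step ends l ψ e j else 0) -
        (if LabGraph.pathVert ends l e (j + 1) = w then step ends l ψ e j else 0)) := by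
  simp only [LabGraph.mdeg, Fintype.sum_sigma, Nat.cast_one, Int.ediv_one]
  refine Finset.sum_congr rfl fun e _ => ?_
  rw [← Fin.sum_univ_eq_sum_range]
  refine Finset.sum_congr rfl fun j _ => ?_
  simp only [LabGraph.blEnds, step, along]
  split_ifs <;> ring

theorem pathVert_eq_inr (e e₀ : E) (i : Fin (l e₀ - 1)) {j : ℕ} :
    LabGraph.pathVert ends l e j = Sum.inr ⟨e₀, i⟩ ↔ e = e₀ ∧ j = i + 1 := by
  constructor
  · intro h
    simp only [LabGraph.pathVert] at h
    split_ifs at h with h0 h1
    obtain ⟨rfl, h2⟩ := Sigma.mk.inj_iff.mp (Sum.inr.inj h)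
    refine ⟨rfl, ?_⟩
    rw [← eq_of_heq h2]
    show j = j - 1 + 1
    omega
  · rintro ⟨rfl, rfl⟩
    exact pathVert_mid e (by omega)

theorem pathVert_eq_inl (e : E) (v : V) {j : ℕ} :
    LabGraph.pathVert ends l e j = Sum.inl v ↔
      (j = 0 ∧ (ends e).1 = v) ∨ (j ≠ 0 ∧ l e ≤ j ∧ (ends e).2 = v) := by
  simp only [LabGraph.pathVert]
  split_ifs with h0 h1 <;> grind

theorem blow_mdeg_inr (ψ : LabGraph.BlVert V E l → ℤ) (e₀ : E) (i : Fin (l e₀ - 1)) :
    LabGraph.mdeg (LabGraph.blEnds ends l) (fun _ => 1) ψ (Sum.inr ⟨e₀, i⟩)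
      = step ends l ψ e₀ (i + 1) - step ends l ψ e₀ i := by
  have := i.isLt
  rw [blow_mdeg, Finset.sum_eq_single e₀ (fun e _ hne => Finset.sum_eq_zero fun j _ => by
    simp [pathVert_eq_inr, hne]) (by simp)]
  simp only [pathVert_eq_inr, true_and, Finset.sum_sub_distrib, Nat.add_right_cancel_iff,
    Finset.sum_ite_eq', Finset.mem_range]
  rw [if_pos (by omega), if_pos (by omega)]

include hl in
theorem blow_mdeg_inl (ψ : LabGraph.BlVert V E l → ℤ) (v : V) :
    LabGraph.mdeg (LabGraph.blEnds ends l) (fun _ => 1) ψ (Sum.inl v)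
      = ∑ e, ((if (ends e).1 = v then step ends l ψ e 0 else 0) -
          (if (ends e).2 = v then step ends l ψ e (l e - 1) else 0)) := by
  rw [blow_mdeg]
  refine Finset.sum_congr rfl fun e _ => ?_
  have := hl e
  rw [Finset.sum_sub_distrib,
    Finset.sum_eq_single 0 (fun j hj hne => if_neg (by
      rw [pathVert_eq_inl]; rw [Finset.mem_range] at hj; omega)) (by simp; omega),
    Finset.sum_eq_single (l e - 1) (fun j hj hne => if_neg (by
      rw [pathVert_eq_inl]; rw [Finset.mem_range] at hj; omega)) (by simp; omega)]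
  simp [pathVert_eq_inl, show l e ≤ l e - 1 + 1 by omega]

include hl in
/-- Building a blow-up function with prescribed second differences. -/
theorem exists_blow (φ : V → ℤ) (d : E → ℕ → ℤ)
    (hd : ∀ e, ∑ j ∈ range (l e), d e j = dlt ends φ e) :
    ∃ ψ : LabGraph.BlVert V E l → ℤ, ∀ e j, j < l e → step ends l ψ e j = d e j := by
  let ψ : LabGraph.BlVert V E l → ℤ :=
    Sum.elim φ fun p => φ (ends p.1).1 + ∑ j ∈ range (p.2.val + 1), d p.1 j
  refine ⟨ψ, ?_⟩
  have key : ∀ e j, j ≤ l e → along ends l ψ e j = φ (ends e).1 + ∑ k ∈ range j, d e k := by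
    intro e j hj
    rcases Nat.eq_zero_or_pos j with rfl | hj0
    · simp [along, pathVert_zero, ψ]
    rcases hj.eq_or_lt with rfl | hlt
    · simp [along, pathVert_last hl, ψ, hd, dlt]
    · obtain ⟨k, rfl⟩ := Nat.exists_eq_add_of_le' hj0
      simp [along, pathVert_mid e hlt, ψ]
  intro e j hj
  rw [step, key e (j + 1) hj, key e j hj.le, Finset.sum_range_succ]
  ring

end GrothLib.LabGraph
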