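import Mathlib.LinearAlgebra.Matrix.Determinant.Basic
import Mathlib.Data.Matrix.Mul
import Mathlib.Data.Fintype.Pi
import Mathlib.Data.Fintype.Perm

/-!
# The Gram form of the Cauchy–Binet formula
-/

namespace GrothLib.LabGraph

open Finset Matrix

set_option linter.unusedSectionVars false

variable {m k : Type*} [Fintype m] [DecidableEq m] [Fintype k] [DecidableEq k] {R : Type*} [CommRing R]

theorem det_mul_expand (M : Matrix m k R) (N : Matrix k m R) :
    (M * N).det = ∑ g : m → k, (∏ i, M i (g i)) * (N.submatrix g id).det := by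
  have h : M * N = fun i => ∑ e, M i e • N e := by
    ext i j
    simp [Matrix.mul_apply]
  rw [h]
  show detRowAlternating (fun i => ∑ e, M i e • N e) = _
  rw [← AlternatingMap.coe_multilinearMap, MultilinearMap.map_sum]
  refine Finset.sum_congr rfl fun g _ => ?_
  rw [MultilinearMap.map_smul_univ]
  rfl

theorem sum_image_eq {S : Finset k} (g₀ : m → k) (hg₀ : Function.Injective g₀)
    (him : Finset.image g₀ univ = S) (F : (m → k) → R) :
    ∑ g ∈ univ.filter (fun g : m → k => Function.Injective g ∧ Finset.image g univ = S), F g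
      = ∑ σ : Equiv.Perm m, F (g₀ ∘ σ) := by
  classical
  refine (Finset.sum_bij (fun σ _ => g₀ ∘ (σ : Equiv.Perm m)) ?_ ?_ ?_ ?_).symm
  · intro σ _
    simp only [Finset.mem_filter, Finset.mem_univ, true_and]
    refine ⟨hg₀.comp σ.injective, ?_⟩
    rw [← him, ← Finset.image_image, Finset.image_univ_equiv]
  · intro σ _ τ _ h
    exact Equiv.ext fun x => hg₀ (congrFun h x)
  · intro g hg
    simp only [Finset.mem_filter, Finset.mem_univ, true_and] at hg
    have hex : ∀ x, ∃ y, g₀ y = g x := fun x => by
      have : g x ∈ Finset.image g₀ univ := by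
        rw [him, ← hg.2]; exact Finset.mem_image_of_mem g (mem_univ x)
      simpa using this
    choose s hs using hex
    have hinj : Function.Injective s := fun a b h => hg.1 (by rw [← hs a, ← hs b, h])
    exact ⟨Equiv.ofBijective s ((Fintype.bijective_iff_injective_and_card s).mpr ⟨hinj, rfl⟩),
      mem_univ _, funext hs⟩
  · exact fun _ _ => rfl

theorem sum_perm_eq (g₀ : m → k) (w : k → R) (N : Matrix k m R) :
    ∑ σ : Equiv.Perm m, (∏ i, w (g₀ (σ i)) * N (g₀ (σ i)) i) * (N.submatrix (g₀ ∘ σ) id).det
      = (∏ i, w (g₀ i)) * ((N.submatrix g₀ id).det * (N.submatrix g₀ id).det) := by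
  have hsub : ∀ σ : Equiv.Perm m, N.submatrix (g₀ ∘ σ) id = (N.submatrix g₀ id).submatrix σ id :=
    fun σ => rfl
  simp only [hsub, Matrix.det_permute, Finset.prod_mul_distrib,
    fun σ : Equiv.Perm m => Equiv.prod_comp σ (fun i => w (g₀ i))]
  have hdet : ∑ σ : Equiv.Perm m, ((Equiv.Perm.sign σ : ℤ) : R) * ∏ i, N (g₀ (σ i)) i
      = (N.submatrix g₀ id).det := by
    rw [Matrix.det_apply']; rfl
  calc _ = ((∏ i, w (g₀ i)) * (N.submatrix g₀ id).det) *
          ∑ σ : Equiv.Perm m, ((Equiv.Perm.sign σ : ℤ) : R) * ∏ i, N (g₀ (σ i)) i := by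
        rw [Finset.mul_sum]
        exact Finset.sum_congr rfl fun σ _ => by ring
    _ = _ := by rw [hdet]; ring

/-- Cauchy–Binet for `Nᵀ diag(w) N`, with the squared minors given by `d`. -/
theorem det_gram (N : Matrix k m R) (w : k → R) (d : Finset k → R)
    (hd : ∀ g : m → k, Function.Injective g → (N.submatrix g id).det * (N.submatrix g id).det
      = d (Finset.image g univ)) :
    (Nᵀ * Matrix.diagonal w * N).det
      = ∑ S ∈ univ.powerset.filter (fun S : Finset k => S.card = Fintype.card m),
          d S * ∏ e ∈ S, w e := by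
  classical
  rw [det_mul_expand]
  simp only [Matrix.mul_diagonal, Matrix.transpose_apply]
  rw [← Finset.sum_filter_add_sum_filter_not univ (fun g : m → k => Function.Injective g),
    Finset.sum_eq_zero (s := univ.filter fun g : m → k => ¬ Function.Injective g) fun g hg => ?_,
    add_zero]
  · rw [← Finset.sum_fiberwise_of_maps_to (g := fun g : m → k => Finset.image g univ)
      (t := univ.powerset.filter (fun S : Finset k => S.card = Fintype.card m))]
    · refine Finset.sum_congr rfl fun S hS => ?_
      rw [Finset.filter_filter]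
      simp only [Finset.mem_filter] at hS
      let g₀ : m → k := fun i => ((Fintype.equivOfCardEq
        (show Fintype.card m = Fintype.card S by simp [hS.2]) i : S) : k)
      have hg₀ : Function.Injective g₀ := Subtype.val_injective.comp (Equiv.injective _)
      have him : Finset.image g₀ univ = S := by
        refine Finset.eq_of_subset_of_card_le (fun x hx => ?_) ?_
        · obtain ⟨i, -, rfl⟩ := Finset.mem_image.mp hx
          exact Subtype.prop _
        · rw [Finset.card_image_of_injective _ hg₀, hS.2, Finset.card_univ]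
      rw [sum_image_eq g₀ hg₀ him]
      simp only [Function.comp_apply]
      rw [Finset.sum_congr rfl fun σ _ => by
        rw [show (∏ i, N (g₀ (σ i)) i * w (g₀ (σ i))) = ∏ i, w (g₀ (σ i)) * N (g₀ (σ i)) i from
          Finset.prod_congr rfl fun i _ => mul_comm _ _], sum_perm_eq, hd g₀ hg₀, him, mul_comm,
        ← him, Finset.prod_image hg₀.injOn]
    · intro g hg
      simp only [Finset.mem_filter, Finset.mem_univ, true_and] at hg
      simp [Finset.card_image_of_injective _ hg]
  · simp only [Finset.mem_filter, Finset.mem_univ, true_and] at hg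
    obtain ⟨a, b, hab, hne⟩ := Function.not_injective_iff.mp hg
    rw [Matrix.det_zero_of_row_eq hne (by funext j; simp [hab]), mul_zero]

end GrothLib.LabGraph
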