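import Groth.Agent.Lib.LabGraph.MultFn

/-!
# Contracting a connecting chain
-/

universe u

namespace GrothLib.LabGraph

open Finset Matrix

set_option linter.unusedSectionVars false

variable {V E : Type u} [Fintype E] [Fintype V] [DecidableEq V] [DecidableEq E] {ends : E → V × V}
  {β : V → ℤ} {m : ℕ} {f : Fin (m + 1) → V} {e : Fin m → E}

theorem chain_const (hC : LabGraph.IsChain ends f e) (hc : ∀ i j, β (f i) = β (f j)) :
    ∀ x ∈ univ.image e, β (ends x).1 = β (ends x).2 := by
  intro x hx
  obtain ⟨i, -, rfl⟩ := Finset.mem_image.mp hx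
  rcases hC.2.2 i with h | h <;> rw [h] <;> exact hc _ _

theorem chain_linked (hC : LabGraph.IsChain ends f e) (j : Fin (m + 1)) :
    Linked ends (univ.image e) (f 0) (f j) := by
  induction j using Fin.induction with
  | zero => exact .refl _
  | succ i ih =>
    refine ih.trans _ _ _ ?_
    rcases hC.2.2 i with h | h
    · exact .rel _ _ ⟨e i, Finset.mem_image_of_mem e (mem_univ i), h⟩
    · exact (Relation.EqvGen.rel _ _ ⟨e i, Finset.mem_image_of_mem e (mem_univ i), h⟩).symm _ _

theorem chain_class (hC : LabGraph.IsChain ends f e) {a b : V}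
    (h : DualGr.ctrMk ends (univ.image e) a = DualGr.ctrMk ends (univ.image e) b) :
    a = b ∨ (∃ i, f i = a) ∧ ∃ j, f j = b := by
  classical
  have key := Linked.apply_eq (ends := ends) (fun v => if ∃ i, f i = v then none else some v)
    (fun x hx => ?_) (Quotient.exact h : Linked ends (univ.image e) a b)
  · by_cases ha : ∃ i, f i = a <;> by_cases hb : ∃ i, f i = b <;> simp [ha, hb] at key
    · exact Or.inr ⟨ha, hb⟩
    · exact Or.inl key
  · obtain ⟨i, -, rfl⟩ := Finset.mem_image.mp hx
    rcases hC.2.2 i with h | h <;> simp [h]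

theorem chain_mk (hC : LabGraph.IsChain ends f e) (j : Fin (m + 1)) :
    DualGr.ctrMk ends (univ.image e) (f j) = DualGr.ctrMk ends (univ.image e) (f 0) :=
  (Quotient.sound (chain_linked hC j)).symm

theorem exists_sides (hC : LabGraph.IsChain ends f e)
    (hconn : ∀ i, LabGraph.IsConnecting ends (e i)) :
    ∃ S : Fin m → Finset V,
      (∀ k x, ((ends x).1 ∈ S k ↔ (ends x).2 ∉ S k) ↔ x = e k) ∧
      ∀ k i, f i ∈ S k ↔ i.val ≤ k.val := by
  choose S hS using hconn
  refine ⟨fun k => if f 0 ∈ S k then S k else (S k)ᶜ, fun k x => ?_, fun k => ?_⟩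
  · rw [← hS k x]; dsimp only; split <;> simp; tauto
  have h0 : f 0 ∈ (if f 0 ∈ S k then S k else (S k)ᶜ) := by
    split <;> simp [*]
  have hcr : ∀ x, ((ends x).1 ∈ (if f 0 ∈ S k then S k else (S k)ᶜ) ↔
      (ends x).2 ∉ (if f 0 ∈ S k then S k else (S k)ᶜ)) ↔ x = e k := fun x => by
    rw [← hS k x]; split <;> simp; tauto
  dsimp only
  generalize (if f 0 ∈ S k then S k else (S k)ᶜ) = U at h0 hcr
  intro i
  induction i using Fin.induction with
  | zero => simp [h0]
  | succ i ih =>
    have hx := hcr (e i)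
    have he : e i = e k ↔ i.val = k.val := by rw [hC.2.1.eq_iff, Fin.ext_iff]
    have hv : i.succ.val = i.val + 1 := rfl
    have hv' : i.castSucc.val = i.val := rfl
    rw [he] at hx
    rcases hC.2.2 i with h | h <;> rw [h] at hx <;> dsimp only at hx <;> grind

/-- The data of a connecting chain of weight `m` with all self-intersections `-2`. -/
structure ChainData (ends : E → V × V) (β : V → ℤ) {m : ℕ} (f : Fin (m + 1) → V) (e : Fin m → E) :
    Prop where
  mult : LabGraph.IsMultFn ends β
  chain : LabGraph.IsChain ends f e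
  conn : ∀ i, LabGraph.IsConnecting ends (e i)
  beta : ∀ i, β (f i) = m
  diag : ∀ i, LabGraph.mfMatrix ends β (f i) (f i) = -2

variable (H : ChainData ends β f e)

/-- The unit vector. -/
abbrev one (v : V) : V → ℤ := Pi.single v 1

theorem mulVec_one (v w : V) :
    (LabGraph.mfMatrix ends β *ᵥ one v) w = LabGraph.mfMatrix ends β w v := by
  simp [Matrix.mulVec, dotProduct, Pi.single_apply]

theorem push_one {Dset : Finset E} (v : V) :
    push ends Dset (one v) = Pi.single (DualGr.ctrMk ends Dset v) 1 := by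
  funext c
  rw [push_apply, Finset.sum_eq_single v (fun u _ hu => by simp [hu]) (by simp)]
  simp [Pi.single_apply, eq_comm]

include H

theorem ChainData.m_pos : 0 < m := by
  have := (H.mult (f 0)).1
  rw [H.beta] at this
  exact_mod_cast this

theorem ChainData.const : ∀ x ∈ univ.image e, β (ends x).1 = β (ends x).2 :=
  chain_const H.chain fun i j => by rw [H.beta, H.beta]

/-- Chain vertices are joined only to their neighbours, and once. -/
theorem ChainData.mult_chain {i j : Fin (m + 1)} (hij : i.val < j.val) :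
    LabGraph.edgeMult ends (f i) (f j) = if j.val = i.val + 1 then 1 else 0 := by
  obtain ⟨S, hS, hSf⟩ := exists_sides H.chain H.conn
  have huse : ∀ x, ends x = (f i, f j) ∨ ends x = (f j, f i) →
      ∀ k : Fin m, i.val ≤ k.val → k.val < j.val → x = e k := by
    intro x hx k hk1 hk2
    refine (hS k x).mp ?_
    have h1 : f i ∈ S k := (hSf k i).mpr hk1
    have h2 : f j ∉ S k := fun h => by have := (hSf k j).mp h; omega
    rcases hx with h | h <;> simp [h, h1, h2]
  have hi : i.val < m := by omega
  split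
  · rename_i hji
    rw [LabGraph.edgeMult, Finset.card_eq_one]
    refine ⟨e ⟨i, hi⟩, ?_⟩
    ext x
    simp only [Finset.mem_filter, Finset.mem_univ, true_and, Finset.mem_singleton]
    refine ⟨fun hx => huse x hx _ le_rfl (Nat.lt_of_succ_le hji.ge), ?_⟩
    rintro rfl
    have hs : (⟨i.val, hi⟩ : Fin m).succ = j := Fin.ext hji.symm
    have := H.chain.2.2 ⟨i, hi⟩
    rwa [hs] at this
  · rename_i hji
    rw [LabGraph.edgeMult, Finset.card_eq_zero, Finset.filter_eq_empty_iff]
    intro x _ hx
    have h1 := huse x hx ⟨i, hi⟩ le_rfl hij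
    have h2 := huse x hx ⟨i + 1, by omega⟩ (Nat.le_succ _) (show i.val + 1 < j.val by omega)
    have := congrArg Fin.val (H.chain.2.1 (h1.symm.trans h2))
    simp at this

/-- The neighbours of interior chain vertices. -/
theorem ChainData.interior {i : Fin (m + 1)} (h0 : 0 < i.val) (hm : i.val < m) {w : V}
    (hw : ∀ j : Fin (m + 1), f j = w → j.val + 1 ≠ i.val ∧ j.val ≠ i.val + 1 ∧ j ≠ i) :
    LabGraph.edgeMult ends (f i) w = 0 := by
  let a : Fin (m + 1) := ⟨i - 1, by omega⟩
  let b : Fin (m + 1) := ⟨i + 1, by omega⟩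
  have ha : LabGraph.edgeMult ends (f i) (f a) = 1 := by
    rw [edgeMult_comm, H.mult_chain (show a.val < i.val from Nat.sub_lt h0 one_pos),
      if_pos (show i.val = i.val - 1 + 1 by omega)]
  have hb : LabGraph.edgeMult ends (f i) (f b) = 1 := by
    rw [H.mult_chain (show i.val < b.val by simp [b]), if_pos rfl]
  have hwi : w ≠ f i := fun h => (hw i h.symm).2.2 rfl
  have hwa : w ≠ f a := fun h => (hw a h.symm).1 (by simp [a]; omega)
  have hwb : w ≠ f b := fun h => (hw b h.symm).2.1 rfl
  have hne : ∀ j : Fin (m + 1), j ≠ i → f j ∈ univ.erase (f i) := fun j hj =>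
    Finset.mem_erase.mpr ⟨fun h => hj (H.chain.1 h), mem_univ _⟩
  have hd := mfMatrix_diag H.mult (f i)
  rw [H.diag, H.beta] at hd
  have hsum : ∑ u ∈ {f a, f b, w}, β u * (LabGraph.edgeMult ends (f i) u : ℤ) ≤
      ∑ u ∈ univ.erase (f i), β u * (LabGraph.edgeMult ends (f i) u : ℤ) := by
    refine Finset.sum_le_sum_of_subset_of_nonneg (fun u hu => ?_)
      fun u _ _ => mul_nonneg (H.mult u).1.le (Nat.cast_nonneg _)
    simp only [Finset.mem_insert, Finset.mem_singleton] at hu
    rcases hu with rfl | rfl | rfl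
    · exact hne a (Fin.ne_of_val_ne (by simp [a]; omega))
    · exact hne b (Fin.ne_of_val_ne (by simp [b]))
    · exact Finset.mem_erase.mpr ⟨hwi, mem_univ _⟩
  have hab : f a ≠ f b := fun h => by have := congrArg Fin.val (H.chain.1 h); simp [a, b] at this
  rw [Finset.sum_insert (by simp [hab, hwa.symm]), Finset.sum_pair hwb.symm, ha, hb, H.beta, H.beta] at hsum
  push_cast at hsum
  have hp := (H.mult w).1
  by_contra hne0
  have : 1 ≤ (LabGraph.edgeMult ends (f i) w : ℤ) := by exact_mod_cast Nat.one_le_iff_ne_zero.mpr hne0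
  nlinarith

/-- The row of an interior chain vertex. -/
theorem ChainData.interior_row {i : Fin (m + 1)} (h0 : 0 < i.val) (hm : i.val < m) (x : V → ℤ) :
    (LabGraph.mfMatrix ends β *ᵥ x) (f i) =
      x (f ⟨i - 1, by omega⟩) - 2 * x (f i) + x (f ⟨i + 1, by omega⟩) := by
  set a : Fin (m + 1) := ⟨i - 1, by omega⟩ with ha'
  set b : Fin (m + 1) := ⟨i + 1, by omega⟩ with hb'
  have hav : a.val = i.val - 1 := rfl
  have hbv : b.val = i.val + 1 := rfl
  have hd : ∀ {p q : Fin (m + 1)}, p.val ≠ q.val → f p ≠ f q := fun h hh =>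
    h (congrArg Fin.val (H.chain.1 hh))
  show ∑ w, LabGraph.mfMatrix ends β (f i) w * x w = _
  rw [← Finset.sum_subset (Finset.subset_univ {f a, f i, f b})]
  · rw [Finset.sum_insert (by simp [hd (show a.val ≠ i.val by omega), hd (show a.val ≠ b.val by omega)]),
      Finset.sum_pair (hd (show i.val ≠ b.val by omega)), H.diag,
      mfMatrix_ne (hd (show i.val ≠ a.val by omega)), mfMatrix_ne (hd (show i.val ≠ b.val by omega)),
      edgeMult_comm, H.mult_chain (show a.val < i.val by omega),
      H.mult_chain (show i.val < b.val by omega), if_pos (show i.val = a.val + 1 by omega),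
      if_pos hbv]
    ring
  · intro w _ hw
    simp only [Finset.mem_insert, Finset.mem_singleton, not_or] at hw
    rw [mfMatrix_ne (Ne.symm hw.2.1), H.interior h0 hm fun j hj => ⟨fun h => hw.1 ?_, fun h => hw.2.2 ?_,
      fun h => hw.2.1 (by rw [← hj, h])⟩]
    · simp
    · rw [← hj, show j = a from Fin.ext (by omega)]
    · rw [← hj, show j = b from Fin.ext (by omega)]

omit H in
/-- The difference vectors of the chain. -/
def dd (f : Fin (m + 1) → V) (k : Fin m) : V → ℤ := one (f k.succ) - one (f k.castSucc)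

local notation "Im" => LinearMap.range (Matrix.mulVecLin (LabGraph.mfMatrix ends β))

theorem ChainData.cut_mulVec {S : Finset V} {k : Fin m}
    (hS : ∀ x, ((ends x).1 ∈ S ↔ (ends x).2 ∉ S) ↔ x = e k)
    (hSf : ∀ i, f i ∈ S ↔ i.val ≤ k.val) :
    (LabGraph.mfMatrix ends β *ᵥ fun w => if w ∈ S then β w else 0) = (m : ℤ) • dd f k := by
  funext v
  have hcs : f k.castSucc ∈ S := (hSf _).mpr le_rfl
  have hsn : f k.succ ∉ S := fun h => by have := (hSf _).mp h; simp at this
  have hcross : ∀ v w, v ∈ S → w ∉ S →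
      (LabGraph.edgeMult ends v w : ℤ) = if v = f k.castSucc ∧ w = f k.succ then 1 else 0 := by
    intro v w hv hw
    split
    · rename_i h
      rw [h.1, h.2, H.mult_chain (show k.castSucc.val < k.succ.val by simp), if_pos (by simp)]
      simp
    · rename_i h
      rw [LabGraph.edgeMult, Nat.cast_eq_zero, Finset.card_eq_zero, Finset.filter_eq_empty_iff]
      intro x _ hx
      have hxe : x = e k := (hS x).mp (by rcases hx with h' | h' <;> simp [h', hv, hw])
      subst hxe
      rcases H.chain.2.2 k with h' | h' <;> rcases hx with h'' | h'' <;>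
        rw [h'] at h'' <;> simp only [Prod.mk.injEq] at h''
      · exact h ⟨h''.1.symm, h''.2.symm⟩
      · exact hw (h''.1 ▸ hcs)
      · exact hsn (h''.1 ▸ hv)
      · exact h ⟨h''.2.symm, h''.1.symm⟩
  show ∑ w, LabGraph.mfMatrix ends β v w * (if w ∈ S then β w else 0) = _
  simp only [mul_ite, mul_zero, Finset.sum_ite_mem, Finset.univ_inter, dd, Pi.smul_apply,
    Pi.sub_apply, one, Pi.single_apply, smul_eq_mul]
  by_cases hv : v ∈ S
  · have hrow := row_zero H.mult v
    rw [← Finset.sum_add_sum_compl S] at hrow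
    have hc : ∑ w ∈ Sᶜ, LabGraph.mfMatrix ends β v w * β w
        = if v = f k.castSucc then (m : ℤ) else 0 := by
      rw [Finset.sum_eq_single (f k.succ)]
      · rw [mfMatrix_ne (show v ≠ f k.succ from fun h => hsn (h ▸ hv)), hcross v _ hv hsn, H.beta]
        simp
      · intro w hw hne
        rw [Finset.mem_compl] at hw
        rw [mfMatrix_ne (show v ≠ w from fun h => hw (h ▸ hv)), hcross v w hv hw, if_neg (fun h => hne h.2), zero_mul]
      · intro h; exact absurd (Finset.mem_compl.mpr hsn) h
    rw [hc] at hrow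
    rw [if_neg (fun h : v = f k.succ => hsn (h ▸ hv))]
    split_ifs at hrow ⊢ <;> linarith
  · rw [Finset.sum_eq_single (f k.castSucc)]
    · rw [mfMatrix_ne (show v ≠ f k.castSucc from fun h => hv (h ▸ hcs)), edgeMult_comm, hcross _ v hcs hv, H.beta,
        if_neg (fun h : v = f k.castSucc => hv (h ▸ hcs))]
      split_ifs <;> simp_all
    · intro w hw hne
      rw [mfMatrix_ne (show v ≠ w from fun h => hv (h ▸ hw)), edgeMult_comm, hcross w v hw hv, if_neg (fun h => hne h.1),
        zero_mul]
    · intro h; exact absurd hcs h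

theorem ChainData.smul_dd_mem (k : Fin m) : (m : ℤ) • dd f k ∈ Im := by
  obtain ⟨S, hS, hSf⟩ := exists_sides H.chain H.conn
  exact ⟨_, (Matrix.mulVecLin_apply _ _).trans (H.cut_mulVec (hS k) (hSf k))⟩

theorem ChainData.one_interior {k : Fin m} {j : Fin m} (hj : j.val = k.val + 1) :
    LabGraph.mfMatrix ends β *ᵥ one (f k.succ) = dd f j - dd f k := by
  have hjk : j.castSucc = k.succ := Fin.ext hj
  funext v
  rw [mulVec_one, mfMatrix_comm]
  have hi0 : 0 < k.succ.val := by simp
  have him : k.succ.val < m := by have := j.isLt; simp; omega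
  have hrow := H.interior_row hi0 him (one v)
  rw [mulVec_one] at hrow
  rw [hrow]
  simp only [dd, hjk, Pi.sub_apply, one, Pi.single_apply]
  have e1 : (⟨k.succ.val - 1, by omega⟩ : Fin (m + 1)) = k.castSucc := Fin.ext (by simp)
  have e2 : (⟨k.succ.val + 1, by omega⟩ : Fin (m + 1)) = j.succ := Fin.ext (by simp [hj])
  rw [e1, e2]
  simp only [eq_comm (a := v)]
  split_ifs <;> simp

theorem ChainData.dd_congr (k : Fin m) : dd f k - dd f ⟨0, H.m_pos⟩ ∈ Im := by
  obtain ⟨n, hn⟩ := k
  induction n with
  | zero => simp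
  | succ n ih =>
    have := H.one_interior (k := ⟨n, by omega⟩) (j := ⟨n + 1, hn⟩) rfl
    have h1 : dd f ⟨n + 1, hn⟩ - dd f ⟨n, by omega⟩ ∈ Im := ⟨_, (Matrix.mulVecLin_apply _ _).trans this⟩
    simpa using add_mem h1 (ih (by omega))

theorem ChainData.telescope (j : Fin (m + 1)) :
    one (f j) - one (f 0) - (j.val : ℤ) • dd f ⟨0, H.m_pos⟩ ∈ Im := by
  induction j using Fin.induction with
  | zero => simp
  | succ i ih =>
    have := add_mem ih (H.dd_congr i)
    convert this using 1
    simp only [dd, Fin.val_succ, Fin.val_castSucc, Nat.cast_add, Nat.cast_one, add_smul, one_smul]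
    abel

theorem ChainData.last_mem : one (f (Fin.last m)) - one (f 0) ∈ Im := by
  have := add_mem (H.telescope (Fin.last m)) (H.smul_dd_mem ⟨0, H.m_pos⟩)
  simpa using this

local notation "D" => Finset.image e Finset.univ

theorem ChainData.sub_lift_push (y : V → ℤ) :
    y - LabGraph.liftAt ends D (f 0) (push ends D y)
      = ∑ j, y (f j) • (one (f j) - one (f 0)) := by
  funext v
  have hmk := chain_mk H.chain
  simp only [Pi.sub_apply, Finset.sum_apply, Pi.smul_apply, one, Pi.single_apply, smul_eq_mul,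
    LabGraph.liftAt]
  by_cases hv : ∃ i, f i = v
  · obtain ⟨i, rfl⟩ := hv
    simp only [hmk, H.chain.1.eq_iff, ne_eq, true_and]
    by_cases hi : i = 0
    · subst hi
      simp only [not_true, if_false, mul_sub, Finset.sum_sub_distrib, mul_ite, mul_one, mul_zero,
        Finset.sum_ite_eq, Finset.mem_univ, if_true]
      rw [push_apply, ← Finset.sum_filter, show univ.filter (fun v => DualGr.ctrMk ends D v
          = DualGr.ctrMk ends D (f 0)) = univ.image f from ?_, Finset.sum_image H.chain.1.injOn]
      ext v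
      simp only [Finset.mem_filter, Finset.mem_univ, true_and, Finset.mem_image]
      refine ⟨fun h => ?_, fun ⟨i, hi⟩ => hi ▸ hmk i⟩
      rcases chain_class H.chain h with h | ⟨h, -⟩
      · exact ⟨0, h.symm⟩
      · exact h
    · simp [hi]
  · push Not at hv
    have hne : DualGr.ctrMk ends D v ≠ DualGr.ctrMk ends D (f 0) := fun h => by
      rcases chain_class H.chain h with h | ⟨⟨i, hi⟩, -⟩
      · exact hv 0 h.symm
      · exact hv i hi
    rw [if_neg (fun h => hne h.1), push_apply, Finset.sum_eq_single v]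
    · simp [fun i => (hv i).symm]
    · intro u _ hu
      refine if_neg fun h => ?_
      rcases chain_class H.chain h with h | ⟨-, i, hi⟩
      · exact hu h
      · exact hv i hi
    · simp

theorem ChainData.sub_lift_push_mem (y : V → ℤ)
    (hy : ∀ i : Fin (m + 1), 0 < i.val → i.val < m → y (f i) = 0) :
    y - LabGraph.liftAt ends D (f 0) (push ends D y) ∈ Im := by
  rw [H.sub_lift_push]
  refine sum_mem fun j _ => ?_
  rcases Nat.eq_zero_or_pos j.val with h | h
  · rw [show j = 0 from Fin.ext h]; simp
  rcases (Nat.lt_succ_iff.mp j.isLt).lt_or_eq with h' | h'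
  · rw [hy j h h', zero_smul]; exact zero_mem _
  · rw [show j = Fin.last m from Fin.ext h']; exact Submodule.smul_mem _ _ H.last_mem

omit H in
/-- The lift as a linear map. -/
noncomputable def liftLin (ends : E → V × V) (Dset : Finset E) (v₀ : V) :
    (DualGr.CtrVert ends Dset → ℤ) →ₗ[ℤ] (V → ℤ) where
  toFun := LabGraph.liftAt ends Dset v₀
  map_add' x y := funext fun v => by simp only [LabGraph.liftAt, Pi.add_apply]; split_ifs <;> simp
  map_smul' c x := funext fun v => by
    simp only [LabGraph.liftAt, Pi.smul_apply, RingHom.id_apply]; split_ifs <;> simp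

theorem ChainData.push_lift (x : DualGr.CtrVert ends D → ℤ) :
    push ends D (LabGraph.liftAt ends D (f 0) x) = x := by
  funext c
  obtain ⟨v, rfl⟩ := DualGr.ctrMk_surjective ends D c
  rw [push_apply]
  by_cases h0 : DualGr.ctrMk ends D v = DualGr.ctrMk ends D (f 0)
  · rw [h0, Finset.sum_eq_single (f 0)]
    · simp [LabGraph.liftAt]
    · intro u _ hu
      split
      · rename_i h; simp [LabGraph.liftAt, h, hu]
      · rfl
    · simp
  · rw [Finset.sum_eq_single v]
    · simp [LabGraph.liftAt, h0]
    · intro u _ hu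
      refine if_neg fun h => ?_
      rcases chain_class H.chain h with h' | ⟨-, i, hi⟩
      · exact hu h'
      · exact h0 (hi ▸ chain_mk H.chain i)
    · simp

theorem ChainData.lift_ctr_mem (z : DualGr.CtrVert ends D → ℤ) :
    LabGraph.liftAt ends D (f 0)
      (LabGraph.mfMatrix (DualGr.ctrEnds ends D) (LabGraph.ctrFn ends D β) *ᵥ z) ∈ Im := by
  rw [mulVec_ctr H.const H.mult]
  set y := LabGraph.mfMatrix ends β *ᵥ fun v => z (DualGr.ctrMk ends D v) with hy
  have hyI : y ∈ Im := ⟨_, Matrix.mulVecLin_apply _ _⟩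
  have := H.sub_lift_push_mem y fun i h0 hm => by
    rw [hy, H.interior_row h0 hm]
    simp only [chain_mk H.chain]; ring
  simpa using sub_mem hyI this

theorem ChainData.surj (y : V → ℤ) :
    ∃ x : DualGr.CtrVert ends D → ℤ, y - LabGraph.liftAt ends D (f 0) x ∈ Im := by
  set d := dd f ⟨0, H.m_pos⟩
  set z := d - LabGraph.mfMatrix ends β *ᵥ one (f 0) with hz
  have hz0 : ∀ j : Fin (m + 1), 0 < j.val → z (f j) = 0 := by
    intro j hj
    have hne : f j ≠ f 0 := fun h => by
      rw [H.chain.1 h] at hj; exact absurd hj (lt_irrefl 0)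
    rw [hz, Pi.sub_apply, mulVec_one, mfMatrix_ne hne, edgeMult_comm, H.mult_chain (show (0 : Fin (m + 1)).val < j.val by simpa using hj)]
    simp only [d, dd, Pi.sub_apply, one, Pi.single_apply, H.chain.1.eq_iff, Fin.ext_iff, Fin.val_succ,
      Fin.val_castSucc, Fin.val_zero]
    split_ifs <;> simp <;> omega
  have hzl : z = LabGraph.liftAt ends D (f 0) (push ends D z) := by
    rw [← sub_eq_zero, H.sub_lift_push]
    refine Finset.sum_eq_zero fun j _ => ?_
    rcases Nat.eq_zero_or_pos j.val with h | h
    · rw [show j = 0 from Fin.ext h]; simp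
    · rw [hz0 j h, zero_smul]
  have hd : d - LabGraph.liftAt ends D (f 0) (push ends D z) ∈ Im := by
    rw [← hzl, hz, sub_sub_cancel]; exact ⟨_, Matrix.mulVecLin_apply _ _⟩
  refine ⟨push ends D y + (∑ j, y (f j) * (j.val : ℤ)) • push ends D z, ?_⟩
  have h1 : y - LabGraph.liftAt ends D (f 0) (push ends D y)
      - (∑ j, y (f j) * (j.val : ℤ)) • d ∈ Im := by
    rw [H.sub_lift_push, Finset.sum_smul, ← Finset.sum_sub_distrib]
    refine sum_mem fun j _ => ?_
    rw [mul_smul, ← smul_sub]
    exact Submodule.smul_mem _ _ (H.telescope j)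
  have h2 := add_mem h1 (Submodule.smul_mem _ (∑ j, y (f j) * (j.val : ℤ)) hd)
  have hadd := (liftLin ends D (f 0)).map_add
  have hsmul := (liftLin ends D (f 0)).map_smul
  simp only [liftLin, LinearMap.coe_mk, AddHom.coe_mk] at hadd hsmul
  rw [hadd, hsmul]
  convert h2 using 1
  rw [smul_sub]; abel

theorem ChainData.inj (hG : LabGraph.Connected ends) (x : DualGr.CtrVert ends D → ℤ)
    (hfx : LabGraph.liftAt ends D (f 0) x ∈ Im) :
    x ∈ LinearMap.range (Matrix.mulVecLin
      (LabGraph.mfMatrix (DualGr.ctrEnds ends D) (LabGraph.ctrFn ends D β))) := by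
  classical
  obtain ⟨ψ, hψ⟩ := hfx
  rw [Matrix.mulVecLin_apply] at hψ
  obtain ⟨S, hS, hSf⟩ := exists_sides H.chain H.conn
  let N : V → ℤ := fun w => ∑ k, if w ∈ S k then 0 else 1
  have hNf : ∀ j : Fin (m + 1), N (f j) = (j.val : ℤ) := fun j => by
    simp only [N, hSf]
    rw [Finset.sum_ite, Finset.sum_const_zero, zero_add, Finset.sum_const, nsmul_eq_mul, mul_one]
    congr 1
    rw [show univ.filter (fun k : Fin m => ¬ j.val ≤ k.val) = univ.filter fun k : Fin m => k.val < j.val by
      ext k; simp]
    rw [Fin.card_filter_val_lt]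
    exact min_eq_right (Nat.lt_succ_iff.mp j.isLt)
  have hNedge : ∀ a, (∀ k, a ≠ e k) → N (ends a).1 = N (ends a).2 := fun a ha =>
    Finset.sum_congr rfl fun k _ => by
      have := (hS k a).not.mpr (ha k)
      by_cases h1 : (ends a).1 ∈ S k <;> by_cases h2 : (ends a).2 ∈ S k <;> simp [h1, h2] at this ⊢
  have hgood : ∀ w, N w = 0 ∨ N w = m ∨ ∃ j, f j = w := by
    intro w
    induction hG.2 (f 0) w with
    | refl => exact Or.inr (Or.inr ⟨0, rfl⟩)
    | @tail u v _ huv ih =>
      obtain ⟨a, ha⟩ := huv
      by_cases hk : ∃ k, a = e k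
      · obtain ⟨k, rfl⟩ := hk
        rcases H.chain.2.2 k with h | h <;> rcases ha with h' | h' <;>
          rw [h] at h' <;> simp only [Prod.mk.injEq] at h' <;>
          first
            | exact Or.inr (Or.inr ⟨_, h'.2⟩)
            | exact Or.inr (Or.inr ⟨_, h'.1⟩)
      · push Not at hk
        by_cases hv : ∃ j, f j = v
        · exact Or.inr (Or.inr hv)
        have hN : N v = N u := by
          rcases ha with h | h <;> have := hNedge a hk <;> rw [h] at this
          · exact this.symm
          · exact this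
        rw [hN]
        rcases ih with h | h | ⟨j, rfl⟩
        · exact Or.inl h
        · exact Or.inr (Or.inl h)
        · rw [hNf]
          rcases Nat.eq_zero_or_pos j.val with h0 | h0
          · exact Or.inl (by simp [h0])
          rcases (Nat.lt_succ_iff.mp j.isLt).lt_or_eq with h' | h'
          · have := H.interior h0 h' (w := v) fun i hi => absurd ⟨i, hi⟩ hv
            rw [LabGraph.edgeMult, Finset.card_eq_zero, Finset.filter_eq_empty_iff] at this
            exact absurd ha (this (mem_univ a))
          · exact Or.inr (Or.inl (by rw [h']))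
  have hdiv : ∀ w, (m : ℤ) ∣ β w * N w := fun w => by
    rcases hgood w with h | h | ⟨j, rfl⟩
    · simp [h]
    · simp [h]
    · simp [H.beta]
  choose g hg using hdiv
  have hm0 : (m : ℤ) ≠ 0 := by have := H.m_pos; omega
  have hgf : ∀ j : Fin (m + 1), g (f j) = (j.val : ℤ) := fun j => by
    have := hg (f j); rw [H.beta, hNf] at this
    exact (mul_left_cancel₀ hm0 this).symm
  have hdd : ∀ k, push ends D (dd f k) = 0 := fun k => by
    rw [dd, map_sub, push_one, push_one, chain_mk H.chain k.succ, chain_mk H.chain k.castSucc, sub_self]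
  have hg0 : push ends D (LabGraph.mfMatrix ends β *ᵥ g) = 0 := by
    have hsum : (m : ℤ) • g = ∑ k, (β - fun w => if w ∈ S k then β w else 0) := by
      funext w
      simp only [Pi.smul_apply, smul_eq_mul, Finset.sum_apply, Pi.sub_apply]
      rw [← hg w]
      simp only [N, Finset.mul_sum]
      exact Finset.sum_congr rfl fun k _ => by split_ifs <;> simp
    have h2 : (m : ℤ) • push ends D (LabGraph.mfMatrix ends β *ᵥ g) = 0 := by
      rw [← map_smul, ← Matrix.mulVec_smul, hsum, Matrix.mulVec_sum, map_sum]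
      refine Finset.sum_eq_zero fun k _ => ?_
      rw [Matrix.mulVec_sub, mulVec_beta H.mult, H.cut_mulVec (hS k) (hSf k), map_sub, map_zero,
        map_smul, hdd, smul_zero, sub_zero]
    exact (smul_eq_zero.mp h2).resolve_left hm0
  set s := ψ (f ⟨1, Nat.succ_lt_succ H.m_pos⟩) - ψ (f 0) with hs
  have hlin : ∀ j, (hj : j ≤ m) → ψ (f ⟨j, Nat.lt_succ_of_le hj⟩) = ψ (f 0) + (j : ℤ) * s := by
    intro j
    induction j using Nat.strong_induction_on with
    | _ j ih =>
      intro hj
      match j, ih, hj with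
      | 0, _, _ => simp
      | 1, _, _ => simp [hs]
      | j + 2, ih, hj =>
        have h := congrFun hψ (f ⟨j + 1, by omega⟩)
        rw [H.interior_row (Nat.succ_pos j) (show j + 1 < m by omega)] at h
        have hne : f ⟨j + 1, by omega⟩ ≠ f 0 := fun h => by
          have := congrArg Fin.val (H.chain.1 h); simp at this
        simp only [LabGraph.liftAt, chain_mk H.chain, true_and, hne, if_true, ne_eq, not_false_iff,
          Nat.add_sub_cancel] at h
        rw [ih (j + 1) (by omega) (by omega), ih j (by omega) (by omega)] at h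
        push_cast at h ⊢
        linarith
  let h : V → ℤ := ψ - s • g
  have hconst : ∀ v, h v = h (Quotient.out (DualGr.ctrMk ends D v : Quotient (DualGr.ctrSetoid ends D))) := by
    intro v
    refine Linked.apply_eq h (fun a ha => ?_)
      (Quotient.exact (Quotient.out_eq (DualGr.ctrMk ends D v : Quotient (DualGr.ctrSetoid ends D))).symm)
    obtain ⟨k, -, rfl⟩ := Finset.mem_image.mp ha
    have hh : ∀ j : Fin (m + 1), h (f j) = ψ (f 0) := fun j => by
      simp only [h, Pi.sub_apply, Pi.smul_apply, smul_eq_mul, hgf,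
        hlin j.val (Nat.lt_succ_iff.mp j.isLt)]
      ring
    rcases H.chain.2.2 k with h' | h' <;> rw [h'] <;> simp [hh]
  refine ⟨fun c => h (Quotient.out (s := DualGr.ctrSetoid ends D) c), ?_⟩
  rw [Matrix.mulVecLin_apply, mulVec_ctr H.const H.mult]
  have : (fun v => h (Quotient.out (DualGr.ctrMk ends D v : Quotient (DualGr.ctrSetoid ends D)))) = h :=
    funext fun v => (hconst v).symm
  rw [this]
  simp only [h, Matrix.mulVec_sub, Matrix.mulVec_smul, map_sub, map_smul, hg0, smul_zero, sub_zero, hψ,
    H.push_lift]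

/-- The map of component groups. -/
theorem ChainData.exists_hom :
    ∃ φ : LabGraph.CompGrp (DualGr.ctrEnds ends D) (LabGraph.ctrFn ends D β) →+
        LabGraph.CompGrp ends β,
      Function.Surjective φ ∧
      ∀ (x : LinearMap.ker (LabGraph.betaHom (LabGraph.ctrFn ends D β)))
        (y : LinearMap.ker (LabGraph.betaHom β)),
        (y : V → ℤ) = LabGraph.liftAt ends D (f 0) (x : DualGr.CtrVert ends D → ℤ) →
        φ (Submodule.Quotient.mk x) = Submodule.Quotient.mk y := by
  have hk : ∀ x : LinearMap.ker (LabGraph.betaHom (LabGraph.ctrFn ends D β)),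
      liftLin ends D (f 0) x.1 ∈ LinearMap.ker (LabGraph.betaHom β) := fun x => by
    rw [LinearMap.mem_ker, ← betaHom_push H.const]
    show LabGraph.betaHom _ (push ends D (LabGraph.liftAt ends D (f 0) x.1)) = 0
    rw [H.push_lift]; exact x.2
  let L := ((liftLin ends D (f 0)).comp (Submodule.subtype _)).codRestrict
    (LinearMap.ker (LabGraph.betaHom β)) hk
  refine ⟨(Submodule.mapQ _ _ L ?_).toAddMonoidHom, ?_, ?_⟩
  · rintro x ⟨z, hz⟩
    rw [Matrix.mulVecLin_apply] at hz
    show liftLin ends D (f 0) x.1 ∈ Im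
    rw [show x.1 = _ from hz.symm]
    exact H.lift_ctr_mem z
  · intro q
    obtain ⟨y, rfl⟩ := Submodule.Quotient.mk_surjective _ q
    obtain ⟨x, hx⟩ := H.surj y.1
    have hxk : x ∈ LinearMap.ker (LabGraph.betaHom (LabGraph.ctrFn ends D β)) := by
      obtain ⟨u, hu⟩ := hx
      rw [Matrix.mulVecLin_apply] at hu
      rw [LinearMap.mem_ker, ← H.push_lift x, betaHom_push H.const,
        show LabGraph.liftAt ends D (f 0) x = y.1 - LabGraph.mfMatrix ends β *ᵥ u by rw [hu]; abel,
        map_sub, betaHom_mulVec H.mult, LinearMap.mem_ker.mp y.2, sub_zero]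
    refine ⟨Submodule.Quotient.mk ⟨x, hxk⟩, ?_⟩
    simp only [LinearMap.toAddMonoidHom_coe, Submodule.mapQ_apply]
    refine ((Submodule.Quotient.eq _).mpr ?_).symm
    exact hx
  · intro x y hy
    simp only [LinearMap.toAddMonoidHom_coe, Submodule.mapQ_apply]
    exact congrArg _ (Subtype.ext hy.symm)

end GrothLib.LabGraph
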