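import Groth.Agent.Lib.LabGraph.MatrixTree
import Mathlib.LinearAlgebra.FreeModule.Finite.CardQuotient
import Mathlib.GroupTheory.Index
import Mathlib.Data.Int.Cast.Lemmas
import Mathlib.Data.Rat.Lemmas
import Mathlib.Tactic.FieldSimp

/-!
# Order of the component group
-/

universe u

namespace GrothLib.LabGraph

open Finset Matrix

set_option linter.unusedSectionVars false

variable {V E : Type u} [Fintype E] [Fintype V] [DecidableEq V] [DecidableEq E] {ends : E → V × V}
  {β : V → ℤ}

theorem natAbs_det_eq_index {ι : Type*} [Fintype ι] [DecidableEq ι] (M : Matrix ι ι ℤ)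
    (h : M.det ≠ 0) : M.det.natAbs = (LinearMap.range M.mulVecLin).toAddSubgroup.index := by
  have hinj : Function.Injective M.mulVecLin := (injective_iff_map_eq_zero _).mpr fun x hx =>
    Matrix.eq_zero_of_mulVec_eq_zero h hx
  have := Submodule.natAbs_det_equiv (LinearMap.range M.mulVecLin)
    (LinearEquiv.ofInjective M.mulVecLin hinj)
  rw [← LinearMap.det_toLin' M, Matrix.toLin'_apply']
  exact this

theorem minor_det_ne_zero [Nonempty V] (hβ : LabGraph.IsMultFn ends β)
    (hG : LabGraph.Connected ends) (r : V) : (minor ends β r).det ≠ 0 := by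
  intro h
  obtain ⟨x, hx, hx0⟩ := Matrix.exists_mulVec_eq_zero_iff.mpr h
  have hA : ∀ v, v ≠ r → (LabGraph.mfMatrix ends β *ᵥ ext0 r x) v = 0 := fun v hv => by
    show ∑ w, LabGraph.mfMatrix ends β v w * ext0 r x w = 0
    rw [sum_ext0]
    exact congrFun hx0 ⟨v, hv⟩
  have hr : (LabGraph.mfMatrix ends β *ᵥ ext0 r x) r = 0 := by
    have := betaHom_mulVec hβ (ext0 r x)
    rw [betaHom_apply, Finset.sum_eq_single r (fun v _ hv => by rw [hA v hv, zero_mul]) (by simp)] at this
    exact (mul_eq_zero.mp this).resolve_right (hβ r).1.ne'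
  refine hx (funext fun v => ?_)
  have := proportional_of_mulVec_eq_zero hβ hG (ext0 r x)
    (funext fun v => by by_cases hv : v = r; · rw [hv, hr]; rfl
                        · exact hA v hv) v.1 r
  simpa [ext0, v.2, (hβ r).1.ne'] using this

/-- Key index identity. -/
theorem index_minor (hβ : LabGraph.IsMultFn ends β) (hG : LabGraph.Connected ends) (r : V)
    (b : V → ℤ) (g₀ : ℤ) (hg₀ : g₀ ≠ 0) (hb : ∀ v, β v = g₀ * b v) (hbz : ∃ x : V → ℤ, ∑ v, x v * b v = 1) :
    (LinearMap.range (minor ends β r).mulVecLin).toAddSubgroup.index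
      = (b r).natAbs * (Nat.card (LabGraph.CompGrp ends β) * (b r).natAbs) := by
  obtain ⟨x₀, hx₀⟩ := hbz
  set K := LinearMap.ker (LabGraph.betaHom β) with hK
  set A := LabGraph.mfMatrix ends β with hA
  let AK : (V → ℤ) →+ K :=
    (A.mulVecLin.codRestrict K fun ψ => by simp [K, A, betaHom_mulVec hβ]).toAddMonoidHom
  let P : K →+ ({v // v ≠ r} → ℤ) :=
    { toFun := fun y v => y.1 v.1
      map_zero' := rfl
      map_add' := fun _ _ => rfl }
  have hKmem : ∀ y : V → ℤ, y ∈ K ↔ ∑ v, y v * b v = 0 := fun y => by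
    simp only [hK, LinearMap.mem_ker, betaHom_apply, hb]
    rw [show ∑ v, y v * (g₀ * b v) = g₀ * ∑ v, y v * b v by
      rw [Finset.mul_sum]; exact Finset.sum_congr rfl fun v _ => by ring]
    simp [hg₀]
  have hPker : P.ker = ⊥ := by
    rw [eq_bot_iff]
    intro y hy
    have h0 : ∀ v, v ≠ r → y.1 v = 0 := fun v hv => congrFun hy ⟨v, hv⟩
    have hsum := (hKmem y.1).mp y.2
    rw [Finset.sum_eq_single r (fun v _ hv => by rw [h0 v hv, zero_mul]) (by simp)] at hsum
    have hbr : b r ≠ 0 := fun h => (hβ r).1.ne' (by rw [hb, h, mul_zero])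
    exact Subtype.ext (funext fun v => by
      by_cases hv : v = r
      · rw [hv]; exact (mul_eq_zero.mp hsum).resolve_right hbr
      · exact h0 v hv)
  have hPrange : P.range.index = (b r).natAbs := by
    let φ : ({v // v ≠ r} → ℤ) →+ ZMod (b r).natAbs :=
      { toFun := fun y => ((∑ v : {v // v ≠ r}, y v * b v.1 : ℤ) : ZMod (b r).natAbs)
        map_zero' := by simp
        map_add' := fun y z => by simp [add_mul, Finset.sum_add_distrib] }
    have hrange : P.range = φ.ker := by
      ext y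
      simp only [AddMonoidHom.mem_range, AddMonoidHom.mem_ker, φ, AddMonoidHom.coe_mk, ZeroHom.coe_mk,
        ZMod.intCast_zmod_eq_zero_iff_dvd, Int.natAbs_dvd]
      constructor
      · rintro ⟨z, rfl⟩
        have := (hKmem z.1).mp z.2
        rw [← Finset.add_sum_erase _ _ (mem_univ r), Finset.sum_subtype (p := fun v => v ≠ r) (univ.erase r)
          (fun v => by simp)] at this
        exact ⟨-z.1 r, by
          show ∑ v : {v // v ≠ r}, z.1 v.1 * b v.1 = _
          linarith⟩
      · rintro ⟨c, hc⟩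
        refine ⟨⟨fun v => if h : v = r then -c else y ⟨v, h⟩, (hKmem _).mpr ?_⟩, ?_⟩
        · rw [← Finset.add_sum_erase _ _ (mem_univ r), Finset.sum_subtype (p := fun v => v ≠ r) (univ.erase r)
            (fun v => by simp)]
          rw [Finset.sum_congr rfl fun v _ => by rw [dif_neg v.2], dif_pos rfl]
          linarith
        · funext v; exact dif_neg v.2
    have hsurj : Function.Surjective φ := fun z => by
      obtain ⟨n, rfl⟩ := ZMod.intCast_surjective z
      refine ⟨fun v => n * x₀ v.1, ?_⟩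
      simp only [φ, AddMonoidHom.coe_mk, ZeroHom.coe_mk]
      rw [ZMod.intCast_eq_intCast_iff_dvd_sub, Int.natAbs_dvd]
      rw [← Finset.add_sum_erase _ _ (mem_univ r), Finset.sum_subtype (p := fun v => v ≠ r) (univ.erase r)
        (fun v => by simp)] at hx₀
      refine ⟨n * x₀ r, ?_⟩
      simp only [mul_assoc, ← Finset.mul_sum]
      linear_combination (-n) * hx₀
    rw [hrange, AddSubgroup.index_ker, AddMonoidHom.range_eq_top.mpr hsurj,
      AddSubgroup.card_top, Nat.card_zmod]
  have hgrange : (P.comp AK).range.index = Nat.card (LabGraph.CompGrp ends β) * (b r).natAbs := by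
    rw [AddMonoidHom.range_comp, AddSubgroup.index_map, hPker, sup_bot_eq, hPrange]
    congr 1
    have : AK.range = ((LinearMap.range A.mulVecLin).comap K.subtype).toAddSubgroup := by
      ext y
      constructor
      · rintro ⟨ψ, rfl⟩; exact ⟨ψ, rfl⟩
      · rintro ⟨ψ, hψ⟩; exact ⟨ψ, Subtype.ext hψ⟩
    rw [this]
    rfl
  let H : AddSubgroup (V → ℤ) := (Pi.evalAddMonoidHom (fun _ : V => ℤ) r).ker
  have hmap : (LinearMap.range (minor ends β r).mulVecLin).toAddSubgroup = H.map (P.comp AK) := by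
    have key : ∀ (ψ : V → ℤ), ψ r = 0 →
        (minor ends β r) *ᵥ (fun v => ψ v.1) = (P.comp AK) ψ := fun ψ hψ => funext fun v => by
      show ∑ w : {v // v ≠ r}, A v.1 w.1 * ψ w.1 = ∑ w, A v.1 w * ψ w
      rw [← Finset.add_sum_erase _ _ (mem_univ r), hψ, mul_zero, zero_add,
        Finset.sum_subtype (p := fun v => v ≠ r) (univ.erase r) (fun v => by simp)]
    ext y
    constructor
    · rintro ⟨x, rfl⟩
      refine ⟨ext0 r x, show ext0 r x r = 0 by simp [ext0], ?_⟩
      rw [← key _ (by simp [ext0])]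
      exact congrArg _ (funext fun v => by simp [ext0, v.2])
    · rintro ⟨ψ, hψ, rfl⟩
      exact ⟨fun v => ψ v.1, key ψ hψ⟩
  have hker : ∀ ψ : V → ℤ, (P.comp AK) ψ = 0 ↔ ∃ c : ℤ, ψ = c • b := by
    intro ψ
    constructor
    · intro h
      have hK0 : AK ψ = 0 := by
        have : AK ψ ∈ P.ker := h
        rwa [hPker, AddSubgroup.mem_bot] at this
      have hprop := proportional_of_mulVec_eq_zero hβ hG ψ (congrArg Subtype.val hK0)
      refine ⟨∑ v, x₀ v * ψ v, funext fun u => ?_⟩
      simp only [Pi.smul_apply, smul_eq_mul, Finset.sum_mul]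
      calc ψ u = ψ u * ∑ v, x₀ v * b v := by rw [hx₀, mul_one]
        _ = _ := by
          rw [Finset.mul_sum]
          refine Finset.sum_congr rfl fun v _ => ?_
          have := hprop u v
          rw [hb, hb] at this
          have h2 : ψ u * b v = ψ v * b u := mul_left_cancel₀ hg₀ (by linarith)
          linear_combination (x₀ v) * h2
    · rintro ⟨c, rfl⟩
      have hAb : A *ᵥ b = 0 := by
        have hgb : β = g₀ • b := funext fun v => by simp [hb v]
        have := mulVec_beta hβ
        rw [hgb, Matrix.mulVec_smul] at this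
        rw [hA, hgb]
        exact (smul_eq_zero.mp this).resolve_left hg₀
      have : AK (c • b) = 0 := Subtype.ext (by
        show A *ᵥ (c • b) = 0
        rw [Matrix.mulVec_smul, hAb, smul_zero])
      rw [AddMonoidHom.comp_apply, this, map_zero]
  have hsup : (H ⊔ (P.comp AK).ker).index = (b r).natAbs := by
    have : H ⊔ (P.comp AK).ker
        = (AddSubgroup.zmultiples (b r)).comap (Pi.evalAddMonoidHom (fun _ : V => ℤ) r) := by
      apply le_antisymm
      · refine sup_le (fun ψ hψ => ?_) fun ψ hψ => ?_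
        · rw [AddSubgroup.mem_comap, show Pi.evalAddMonoidHom (fun _ : V => ℤ) r ψ = 0 from hψ]
          exact zero_mem _
        · obtain ⟨c, rfl⟩ := (hker ψ).mp hψ
          rw [AddSubgroup.mem_comap, Int.mem_zmultiples_iff]
          simp
      · intro ψ hψ
        rw [AddSubgroup.mem_comap, Int.mem_zmultiples_iff] at hψ
        obtain ⟨c, hc⟩ := hψ
        rw [show ψ = (ψ - c • b) + c • b by abel]
        refine AddSubgroup.add_mem_sup ?_ ((hker _).mpr ⟨c, rfl⟩)
        show (ψ - c • b) r = 0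
        simp only [Pi.evalAddMonoidHom_apply] at hc
        simp [hc, mul_comm]
    rw [this, AddSubgroup.index_comap_of_surjective _ (fun z => ⟨fun _ => z, rfl⟩), Int.index_zmultiples]
  rw [hmap, AddSubgroup.index_map, hsup, hgrange]

open scoped Classical in
theorem card_compGrp (hβ : LabGraph.IsMultFn ends β) (hG : LabGraph.Connected ends) :
    (Nat.card (LabGraph.CompGrp ends β) : ℚ) =
      ((univ.gcd β : ℤ) : ℚ) ^ 2 *
        ∑ T ∈ univ.powerset.filter (fun T : Finset E => LabGraph.IsSpanningTree ends T),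
          ∏ v : V, ((β v : ℚ) ^ ((LabGraph.nbrCount ends T v : ℤ) - 2)) := by
  obtain ⟨r⟩ := hG.1
  have : Nonempty V := ⟨r⟩
  obtain ⟨b, hb, hgcd⟩ := Finset.extract_gcd β ⟨r, mem_univ r⟩
  set g₀ := univ.gcd β with hg
  have hb' : ∀ v, β v = g₀ * b v := fun v => hb v (mem_univ v)
  have hg₀ : g₀ ≠ 0 := fun h => (hβ r).1.ne' (by rw [hb' r, h, zero_mul])
  have hbr0 : b r ≠ 0 := fun h => (hβ r).1.ne' (by rw [hb' r, h, mul_zero])
  have hbez : ∃ x : V → ℤ, ∑ v, x v * b v = 1 := by
    let S : Ideal ℤ := LinearMap.range (LabGraph.betaHom b)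
    have hd : ∀ v, Submodule.IsPrincipal.generator S ∣ b v := fun v =>
      (Submodule.IsPrincipal.mem_iff_generator_dvd S).mp ⟨Pi.single v 1, by simp [betaHom_apply, Pi.single_apply]⟩
    have h1 : (1 : ℤ) ∈ S := (Submodule.IsPrincipal.mem_iff_generator_dvd S).mpr
      (hgcd ▸ Finset.dvd_gcd fun v _ => hd v)
    obtain ⟨x, hx⟩ := h1
    exact ⟨x, by rw [← betaHom_apply]; exact hx⟩
  have h1 := index_minor hβ hG r b g₀ hg₀ hb' hbez
  rw [← natAbs_det_eq_index _ (minor_det_ne_zero hβ hG r)] at h1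
  have h2 := minor_det hβ r
  rw [h1] at h2
  push_cast at h2
  have h3 := congrArg (fun z : ℤ => (z : ℚ)) h2
  push_cast at h3
  set N := (Nat.card (LabGraph.CompGrp ends β) : ℚ)
  have hne : ∀ v, (β v : ℚ) ≠ 0 := fun v => Int.cast_ne_zero.mpr (hβ v).1.ne'
  have hT : ∀ T : Finset E, ∏ v : V, ((β v : ℚ) ^ ((LabGraph.nbrCount ends T v : ℤ) - 2))
      = (∏ v, (β v : ℚ) ^ LabGraph.nbrCount ends T v) / (∏ v, (β v : ℚ)) ^ 2 := fun T => by
    rw [← Finset.prod_pow, ← Finset.prod_div_distrib]
    refine Finset.prod_congr rfl fun v _ => ?_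
    rw [zpow_sub₀ (hne v), zpow_natCast]
    norm_num
  simp only [hT, div_eq_mul_inv, ← Finset.sum_mul]
  rw [← h3]
  have hsplit : ∏ v, (β v : ℚ) = (β r : ℚ) * ∏ v : {v // v ≠ r}, (β v.1 : ℚ) := by
    rw [← Finset.mul_prod_erase _ _ (mem_univ r), Finset.prod_subtype (univ.erase r) (p := fun v => v ≠ r)
      (fun v => by simp)]
  have hP : ∏ v : {v // v ≠ r}, (β v.1 : ℚ) ≠ 0 := Finset.prod_ne_zero_iff.mpr fun v _ => hne _
  have habs : (|(b r : ℚ)|) * |(b r : ℚ)| = (b r : ℚ) * b r := abs_mul_abs_self _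
  rw [hsplit, hb' r]
  push_cast
  have hgq : (g₀ : ℚ) ≠ 0 := Int.cast_ne_zero.mpr hg₀
  have hbq : (b r : ℚ) ≠ 0 := Int.cast_ne_zero.mpr hbr0
  field_simp
  first
    | linear_combination (-N) * habs
    | linear_combination N * habs

end GrothLib.LabGraph
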