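import Groth.Agent.Lib.LabGraph.Blowup
import Mathlib.LinearAlgebra.Span.Defs
import Mathlib.RingTheory.Int.Basic
import Mathlib.Data.Nat.Factorization.Basic

/-!
# Decomposition of Cartier labellings
-/

universe u v

namespace GrothLib.LabGraph

open Finset

set_option linter.unusedSectionVars false

variable {V E : Type u} [Fintype E] [Fintype V] [DecidableEq V] [DecidableEq E] {ends : E → V × V}

/-- The value at a chosen representative of the class for the edge set `F`. -/
noncomputable def atRep (F : Finset E) (f : V → ℤ) (v : V) : ℤ :=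
  f (Quotient.out (DualGr.ctrMk ends F v : Quotient (DualGr.ctrSetoid ends F)))

theorem linked_rep (F : Finset E) (v : V) :
    Linked ends F v (Quotient.out (DualGr.ctrMk ends F v : Quotient (DualGr.ctrSetoid ends F))) :=
  (Quotient.exact (Quotient.out_eq (DualGr.ctrMk ends F v : Quotient (DualGr.ctrSetoid ends F))).symm)

theorem atRep_congr (F : Finset E) (f : V → ℤ) {a b : V} (h : Linked ends F a b) :
    atRep (ends := ends) F f a = atRep (ends := ends) F f b := by
  rw [atRep, atRep, show DualGr.ctrMk ends F a = DualGr.ctrMk ends F b from Quotient.sound h]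

/-- Elementary Cartier functions. -/
def elementary (ends : E → V × V) (l : E → ℕ) : Set (V → ℤ) :=
  {g | ∃ n : ℕ, 0 < n ∧ (∀ v, (n : ℤ) ∣ g v) ∧
    ∀ e, ¬ (l e ∣ n) → g (ends e).1 = g (ends e).2}

theorem isCartier_mem_span {l : E → ℕ} (hl : ∀ e, 0 < l e) {f : V → ℤ}
    (hf : LabGraph.IsCartier ends l f) : f ∈ Submodule.span ℤ (elementary ends l) := by
  classical
  let S : Submodule ℤ ℤ := (Submodule.span ℤ (elementary ends l)).comap (LinearMap.toSpanSingleton ℤ _ f)
  suffices h1 : (1 : ℤ) ∈ S by simpa [S] using h1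
  by_contra hne
  set M := ∏ e, l e with hM
  have hMpos : 0 < M := Finset.prod_pos fun e _ => hl e
  have key : ∀ p : ℕ, p.Prime → ∃ c : ℕ, ¬ p ∣ c ∧ (c : ℤ) ∈ S := by
    intro p hp
    obtain ⟨a, c, hpc, hMc⟩ := Nat.exists_eq_pow_mul_and_not_dvd hMpos.ne' p hp.ne_one
    have hc : 0 < c := Nat.pos_of_ne_zero fun h => hpc (h ▸ dvd_zero p)
    refine ⟨c, hpc, ?_⟩
    let F : ℕ → Finset E := fun i => univ.filter fun e => ¬ l e ∣ c * p ^ i
    let r : ℕ → V → ℤ := fun i => atRep (ends := ends) (F i) f
    have hsub : ∀ i, F (i + 1) ⊆ F i := fun i e => by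
      simp only [F, Finset.mem_filter, Finset.mem_univ, true_and]
      exact fun h h' => h (h'.trans (mul_dvd_mul_left c ⟨p, pow_succ p i⟩))
    have hmem : ∀ i, (c : ℤ) • r i ∈ Submodule.span ℤ (elementary ends l) := by
      intro i
      induction i with
      | zero =>
        refine Submodule.subset_span ⟨c * p ^ 0, by positivity, fun v => by simp, fun e he => ?_⟩
        simp only [Pi.smul_apply, r]
        rw [atRep_congr (F 0) f (Linked.of_mem (by simpa [F] using he))]
      | succ i ih =>
        rw [show (c : ℤ) • r (i + 1) = (c : ℤ) • r i + (c : ℤ) • (r (i + 1) - r i) by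
          rw [smul_sub]; abel]
        refine Submodule.add_mem _ ih (Submodule.subset_span
          ⟨c * p ^ (i + 1), Nat.mul_pos hc (pow_pos hp.pos _), fun v => ?_, fun e he => ?_⟩)
        · rw [Pi.smul_apply, smul_eq_mul, Nat.cast_mul]
          refine mul_dvd_mul_left _ ?_
          have h := ((linked_rep (ends := ends) (F (i + 1)) v).mono (hsub i)).symm _ _
          have h' := h.trans _ _ _ (linked_rep (ends := ends) (F i) v)
          have := Linked.apply_eq (fun x => ((f x : ℤ) : ZMod (p ^ (i + 1)))) (hl := h') fun e he => by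
            refine (ZMod.intCast_eq_intCast_iff_dvd_sub _ _ _).mpr ?_
            have hd : p ^ (i + 1) ∣ l e := by
              obtain ⟨b, m, hpm, hlm⟩ := Nat.exists_eq_pow_mul_and_not_dvd (hl e).ne' p hp.ne_one
              have hm : m ∣ c := by
                have : m ∣ p ^ a * c := hMc ▸ (hlm ▸ (dvd_mul_left m _)).trans
                  (Finset.dvd_prod_of_mem l (mem_univ e))
                exact (Nat.Coprime.dvd_mul_left
                  ((Nat.Coprime.pow_left a ((hp.coprime_iff_not_dvd).mpr hpm)).symm)).mp this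
              have hbi : i < b := by
                by_contra hbi
                refine (Finset.mem_filter.mp he).2 ?_
                rw [hlm, mul_comm c]
                exact mul_dvd_mul (pow_dvd_pow p (not_lt.mp hbi)) hm
              rw [hlm]; exact Dvd.dvd.mul_right (pow_dvd_pow p hbi) _
            exact (Int.natCast_dvd_natCast.mpr hd).trans (by rw [dvd_sub_comm]; exact hf e)
          exact (ZMod.intCast_eq_intCast_iff_dvd_sub _ _ _).mp this.symm
        · have h1 : Linked ends (F (i + 1)) (ends e).1 (ends e).2 :=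
            Linked.of_mem (by simpa [F] using he)
          simp only [Pi.smul_apply, Pi.sub_apply, r]
          rw [atRep_congr (F (i + 1)) f h1, atRep_congr (F i) f (h1.mono (hsub i))]
    have hlast : r a = f := by
      funext v
      refine ((linked_rep (ends := ends) (F a) v).apply_eq f fun e he => ?_).symm
      exact absurd (by rw [mul_comm, ← hMc]; exact Finset.dvd_prod_of_mem l (mem_univ e))
        (Finset.mem_filter.mp he).2
    simpa [S, hlast] using hmem a
  set n := Submodule.IsPrincipal.generator (S : Ideal ℤ) with hn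
  have hn1 : n.natAbs ≠ 1 := fun h =>
    hne ((Submodule.IsPrincipal.mem_iff_generator_dvd (S : Ideal ℤ)).mpr
      (isUnit_iff_dvd_one.mp (Int.isUnit_iff_natAbs_eq.mpr h)))
  obtain ⟨p, hp, hpn⟩ := Nat.exists_prime_and_dvd hn1
  obtain ⟨c, hpc, hcS⟩ := key p hp
  exact hpc (Int.natCast_dvd_natCast.mp ((Int.natCast_dvd.mpr hpn).trans
    ((Submodule.IsPrincipal.mem_iff_generator_dvd (S : Ideal ℤ)).mp hcS)))

/-! ## Labels constant on circuits -/

variable {L : Type v}

open scoped Classical in
theorem isCyc_restrict (lab : E → L)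
    (hcirc : ∀ C : Finset E, LabGraph.IsCircuit ends C → ∀ e ∈ C, ∀ e' ∈ C, lab e = lab e')
    (a : L) {γ : E → ℤ} (hγ : IsCyc ends γ) :
    IsCyc ends fun e => if lab e = a then γ e else 0 := by
  refine hγ.induction (P := fun γ => IsCyc ends fun e => if lab e = a then γ e else 0) ?_ ?_
  · intro φ; simp [pair]
  · intro δ Z η c hZ hη hsupp hδ φ
    have hsplit : (fun e => if lab e = a then (δ + c • η) e else 0) =
        (fun e => if lab e = a then δ e else 0) + c • fun e => if lab e = a then η e else 0 := by
      funext e; by_cases h : lab e = a <;> simp [h]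
    rw [hsplit, pair_add, pair_smul, hδ φ]
    obtain ⟨e₀, he₀⟩ := hZ.1
    by_cases h : lab e₀ = a
    · have : (fun e => if lab e = a then η e else 0) = η := by
        funext e
        by_cases he : e ∈ Z
        · simp [hcirc Z hZ e he e₀ he₀, h]
        · simp [hsupp e he]
      rw [this, hη φ]; ring
    · have : (fun e => if lab e = a then η e else 0) = 0 := by
        funext e
        by_cases he : e ∈ Z
        · simp [hcirc Z hZ e he e₀ he₀, h]
        · simp [hsupp e he]
      rw [this]; simp [pair]

/-- Pre-achievable Cartier functions. -/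
def preAch (ends : E → V × V) (lab : E → L) (n : E → ℕ) : Set (V → ℤ) :=
  {g | LabGraph.IsCartier ends n g ∧ (∃ B : Finset E, (∀ e ∈ B, ∀ e' ∈ B, lab e = lab e') ∧
    ∀ e, e ∉ B → g (ends e).1 = g (ends e).2)}

theorem exists_decomp (lab : E → L) (n : E → ℕ) (hconn : LabGraph.Connected ends)
    (hcirc : ∀ C : Finset E, LabGraph.IsCircuit ends C → ∀ e ∈ C, ∀ e' ∈ C, lab e = lab e')
    (f : V → ℤ) (hf : LabGraph.IsCartier ends n f) (v₀ : V) :
    ∃ (s : Finset L) (g : L → V → ℤ), (∀ a, g a ∈ preAch ends lab n ∧ g a v₀ = 0) ∧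
      f = (fun _ => f v₀) + ∑ a ∈ s, g a := by
  classical
  have h : ∀ a, ∃ g : V → ℤ,
      (∀ e, dlt ends g e = if lab e = a then dlt ends f e else 0) ∧ g v₀ = 0 := by
    intro a
    refine exists_potential hconn _ (fun γ hγ => ?_) v₀
    refine Eq.trans ?_ (isCyc_restrict lab hcirc a hγ f)
    exact Finset.sum_congr rfl fun e _ => by by_cases h : lab e = a <;> simp [h]
  choose g hg hg0 using h
  refine ⟨univ.image lab, g, fun a => ⟨⟨isCartier_iff.mpr fun e => ?_,
    univ.filter (fun e => lab e = a), fun e he e' he' => by simp at he he'; rw [he, he'],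
    fun e he => ?_⟩, hg0 a⟩, ?_⟩
  · rw [hg]; split
    · exact isCartier_iff.mp hf e
    · exact dvd_zero _
  · have := hg a e
    rw [if_neg (by simpa using he), dlt, sub_eq_zero] at this
    exact this.symm
  · funext v
    have := eq_of_dlt_eq_zero hconn (f - ∑ a ∈ univ.image lab, g a) (fun e => by
      rw [dlt_sub, dlt_sum]
      simp [hg, Finset.sum_ite_eq]) v v₀
    simp only [Pi.sub_apply, Pi.add_apply, Finset.sum_apply, hg0, Finset.sum_const_zero,
      sub_zero] at this ⊢
    linarith

end GrothLib.LabGraph
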