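import Groth.Agent.Lib.LabGraph.Basic
import Groth.Prelude.Def_W4c2conddiscmodels
import Mathlib.Algebra.BigOperators.Fin
import Mathlib.LinearAlgebra.Matrix.ToLin
import Mathlib.Tactic.Abel

/-!
# Multiplicity functions, their matrices and contractions
-/

universe u

namespace GrothLib.LabGraph

open Finset Matrix

set_option linter.unusedSectionVars false

variable {V E : Type u} [Fintype E] [Fintype V] [DecidableEq V] [DecidableEq E] {ends : E → V × V}
  {β : V → ℤ}

theorem edgeMult_comm (v w : V) :
    LabGraph.edgeMult ends v w = LabGraph.edgeMult ends w v := by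
  simp [LabGraph.edgeMult, or_comm]

theorem mfMatrix_ne {v w : V} (h : v ≠ w) :
    LabGraph.mfMatrix ends β v w = (LabGraph.edgeMult ends v w : ℤ) := by
  simp [LabGraph.mfMatrix, h]

theorem mfMatrix_comm (v w : V) :
    LabGraph.mfMatrix ends β v w = LabGraph.mfMatrix ends β w v := by
  rcases eq_or_ne v w with rfl | h
  · rfl
  · rw [mfMatrix_ne h, mfMatrix_ne h.symm, edgeMult_comm]

theorem mfMatrix_diag (hβ : LabGraph.IsMultFn ends β) (v : V) :
    LabGraph.mfMatrix ends β v v * β v
      = -∑ w ∈ univ.erase v, β w * (LabGraph.edgeMult ends v w : ℤ) := by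
  simp only [LabGraph.mfMatrix, if_pos]
  exact Int.ediv_mul_cancel (dvd_neg.mpr (hβ v).2)

theorem row_zero (hβ : LabGraph.IsMultFn ends β) (v : V) :
    ∑ w, LabGraph.mfMatrix ends β v w * β w = 0 := by
  rw [← Finset.add_sum_erase _ _ (mem_univ v), mfMatrix_diag hβ,
    show ∑ w ∈ univ.erase v, LabGraph.mfMatrix ends β v w * β w
        = ∑ w ∈ univ.erase v, β w * (LabGraph.edgeMult ends v w : ℤ) from
      Finset.sum_congr rfl fun w hw => by
        rw [mfMatrix_ne (Finset.ne_of_mem_erase hw).symm, mul_comm]]
  ring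

theorem mulVec_beta (hβ : LabGraph.IsMultFn ends β) :
    LabGraph.mfMatrix ends β *ᵥ β = 0 := funext (row_zero hβ)

theorem betaHom_apply (β x : V → ℤ) : LabGraph.betaHom β x = ∑ v, x v * β v := by
  simp [LabGraph.betaHom, Fintype.linearCombination_apply]

theorem betaHom_mulVec (hβ : LabGraph.IsMultFn ends β) (x : V → ℤ) :
    LabGraph.betaHom β (LabGraph.mfMatrix ends β *ᵥ x) = 0 := by
  simp only [betaHom_apply, Matrix.mulVec, dotProduct, Finset.sum_mul]
  rw [Finset.sum_comm]
  refine Finset.sum_eq_zero fun w _ => ?_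
  have := row_zero hβ w
  calc ∑ v, LabGraph.mfMatrix ends β v w * x w * β v
      = x w * ∑ v, LabGraph.mfMatrix ends β w v * β v := by
        rw [Finset.mul_sum]
        exact Finset.sum_congr rfl fun v _ => by rw [mfMatrix_comm v w]; ring
    _ = 0 := by rw [this, mul_zero]

variable {D : Finset E}

/-- Push a vertex vector to the contraction. -/
noncomputable def push (ends : E → V × V) (D : Finset E) :
    (V → ℤ) →ₗ[ℤ] (DualGr.CtrVert ends D → ℤ) where
  toFun y c := ∑ v, if DualGr.ctrMk ends D v = c then y v else 0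
  map_add' y z := funext fun c => by
    simp only [Pi.add_apply, ← Finset.sum_add_distrib]
    exact Finset.sum_congr rfl fun v _ => by split_ifs <;> simp
  map_smul' a y := funext fun c => by
    simp only [Pi.smul_apply, smul_eq_mul, RingHom.id_apply, Finset.mul_sum]
    exact Finset.sum_congr rfl fun v _ => by split_ifs <;> simp

theorem push_apply (y : V → ℤ) (c : DualGr.CtrVert ends D) :
    push ends D y c = ∑ v, if DualGr.ctrMk ends D v = c then y v else 0 := rfl

theorem sum_push_mul (y : V → ℤ) (g : DualGr.CtrVert ends D → ℤ) :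
    ∑ c, push ends D y c * g c = ∑ v, y v * g (DualGr.ctrMk ends D v) := by
  simp only [push_apply, Finset.sum_mul]
  rw [Finset.sum_comm]
  exact Finset.sum_congr rfl fun v _ => by simp [ite_mul]

section Const

variable (hD : ∀ e ∈ D, β (ends e).1 = β (ends e).2)

include hD

theorem ctrFn_mk (v : V) : LabGraph.ctrFn ends D β (DualGr.ctrMk ends D v) = β v :=
  Linked.apply_eq β hD (Quotient.exact (Quotient.out_eq
    (DualGr.ctrMk ends D v : Quotient (DualGr.ctrSetoid ends D))))

theorem betaHom_push (y : V → ℤ) :
    LabGraph.betaHom (LabGraph.ctrFn ends D β) (push ends D y) = LabGraph.betaHom β y := by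
  simp only [betaHom_apply, sum_push_mul, ctrFn_mk hD]

omit hD in
theorem sum_edgeMult (c d : DualGr.CtrVert ends D) (hcd : c ≠ d) :
    (LabGraph.edgeMult (DualGr.ctrEnds ends D) c d : ℤ) =
      ∑ v ∈ univ.filter (DualGr.ctrMk ends D · = c), ∑ w ∈ univ.filter (DualGr.ctrMk ends D · = d),
        (LabGraph.edgeMult ends v w : ℤ) := by
  simp only [LabGraph.edgeMult, Finset.natCast_card_filter]
  calc (∑ e : DualGr.CtrEdge D,
        if DualGr.ctrEnds ends D e = (c, d) ∨ DualGr.ctrEnds ends D e = (d, c) then (1 : ℤ) else 0)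
      = ∑ e : E, if (DualGr.ctrMk ends D (ends e).1, DualGr.ctrMk ends D (ends e).2) = (c, d) ∨
          (DualGr.ctrMk ends D (ends e).1, DualGr.ctrMk ends D (ends e).2) = (d, c)
          then (1 : ℤ) else 0 := by
        rw [← Finset.sum_filter_add_sum_filter_not univ (fun e => e ∈ D),
          Finset.sum_eq_zero (s := univ.filter (fun e => e ∈ D)) fun e he => ?_, zero_add,
          Finset.sum_subtype (p := fun e => e ∉ D) _ (fun e => by simp)]
        · rfl
        · rw [if_neg]
          rw [DualGr.ctrMk_fst_eq_ctrMk_snd ends D (Finset.mem_filter.mp he).2]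
          rintro (h | h) <;> simp only [Prod.mk.injEq] at h <;>
            first | exact hcd (h.1.symm.trans h.2) | exact hcd (h.2.symm.trans h.1)
    _ = _ := by
        rw [Finset.sum_congr rfl fun v _ => Finset.sum_comm]
        rw [Finset.sum_comm]
        refine Finset.sum_congr rfl fun e _ => ?_
        by_cases h1 : DualGr.ctrMk ends D (ends e).1 = c ∧ DualGr.ctrMk ends D (ends e).2 = d
        · rw [if_pos (Or.inl (Prod.ext h1.1 h1.2)), Finset.sum_eq_single (ends e).1,
            Finset.sum_eq_single (ends e).2]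
          · simp
          · intro w hw hne
            simp only [Finset.mem_filter, Finset.mem_univ, true_and] at hw
            rw [if_neg]
            rintro (h | h) <;> simp [Prod.ext_iff] at h
            · exact hne h.symm
            · exact hcd (h1.1.symm.trans (h.1 ▸ hw))
          · simp [h1.2]
          · intro v hv hne
            simp only [Finset.mem_filter, Finset.mem_univ, true_and] at hv
            refine Finset.sum_eq_zero fun w hw => if_neg ?_
            rintro (h | h) <;> simp [Prod.ext_iff] at h
            · exact hne h.1.symm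
            · exact hcd (hv.symm.trans (h.2 ▸ h1.2))
          · simp [h1.1]
        by_cases h2 : DualGr.ctrMk ends D (ends e).2 = c ∧ DualGr.ctrMk ends D (ends e).1 = d
        · rw [if_pos (Or.inr (Prod.ext h2.2 h2.1)), Finset.sum_eq_single (ends e).2,
            Finset.sum_eq_single (ends e).1]
          · simp
          · intro w hw hne
            simp only [Finset.mem_filter, Finset.mem_univ, true_and] at hw
            rw [if_neg]
            rintro (h | h) <;> simp [Prod.ext_iff] at h
            · exact hcd (h2.1.symm.trans (h.2 ▸ hw))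
            · exact hne h.symm
          · simp [h2.2]
          · intro v hv hne
            simp only [Finset.mem_filter, Finset.mem_univ, true_and] at hv
            refine Finset.sum_eq_zero fun w hw => if_neg ?_
            rintro (h | h) <;> simp [Prod.ext_iff] at h
            · exact hcd (hv.symm.trans (h.1 ▸ h2.2))
            · exact hne h.2.symm
          · simp [h2.1]
        rw [if_neg (by simp [Prod.ext_iff]; tauto)]
        symm
        refine Finset.sum_eq_zero fun v hv => Finset.sum_eq_zero fun w hw => if_neg ?_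
        simp only [Finset.mem_filter, Finset.mem_univ, true_and] at hv hw
        rintro (h | h) <;> simp [Prod.ext_iff] at h
        · exact h1 ⟨h.1 ▸ hv, h.2 ▸ hw⟩
        · exact h2 ⟨h.2 ▸ hv, h.1 ▸ hw⟩

/-- The sum of the matrix over two classes. -/
noncomputable def blockSum (ends : E → V × V) (D : Finset E) (β : V → ℤ)
    (c d : DualGr.CtrVert ends D) : ℤ :=
  push ends D (LabGraph.mfMatrix ends β *ᵥ fun w => if DualGr.ctrMk ends D w = d then 1 else 0) c

omit hD in
theorem blockSum_ne {c d : DualGr.CtrVert ends D} (hcd : c ≠ d) :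
    blockSum ends D β c d = (LabGraph.edgeMult (DualGr.ctrEnds ends D) c d : ℤ) := by
  rw [sum_edgeMult c d hcd, blockSum, push_apply, ← Finset.sum_filter]
  refine Finset.sum_congr rfl fun v hv => ?_
  simp only [Matrix.mulVec, dotProduct, mul_ite, mul_one, mul_zero, ← Finset.sum_filter]
  refine Finset.sum_congr rfl fun w hw => mfMatrix_ne ?_
  rintro rfl
  exact hcd ((Finset.mem_filter.mp hv).2.symm.trans (Finset.mem_filter.mp hw).2)

theorem blockSum_row (hβ : LabGraph.IsMultFn ends β) (c : DualGr.CtrVert ends D) :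
    ∑ d, blockSum ends D β c d * LabGraph.ctrFn ends D β d = 0 := by
  simp only [blockSum, push_apply, Finset.sum_mul, ite_mul, zero_mul]
  rw [Finset.sum_comm]
  refine Finset.sum_eq_zero fun v _ => ?_
  by_cases h : DualGr.ctrMk ends D v = c
  · have hv : ∀ g : V → ℤ, (LabGraph.mfMatrix ends β *ᵥ g) v
        = ∑ w, LabGraph.mfMatrix ends β v w * g w := fun _ => rfl
    simp only [h, if_true, hv, mul_ite, mul_one, mul_zero, Finset.sum_mul,
      ite_mul, zero_mul]
    rw [Finset.sum_comm]
    refine Eq.trans ?_ (row_zero hβ v)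
    exact Finset.sum_congr rfl fun w _ => by simp [ctrFn_mk hD]
  · simp [h]

theorem sum_ctr (hβ : LabGraph.IsMultFn ends β) (c : DualGr.CtrVert ends D) :
    ∑ d ∈ univ.erase c,
        LabGraph.ctrFn ends D β d * (LabGraph.edgeMult (DualGr.ctrEnds ends D) c d : ℤ)
      = -(blockSum ends D β c c * LabGraph.ctrFn ends D β c) := by
  rw [Finset.sum_congr rfl fun d hd => by
    rw [← blockSum_ne (β := β) (Finset.ne_of_mem_erase hd).symm, mul_comm]]
  have := blockSum_row hD hβ c
  rw [← Finset.add_sum_erase _ _ (mem_univ c)] at this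
  linarith

theorem isMultFn_ctr (hβ : LabGraph.IsMultFn ends β) :
    LabGraph.IsMultFn (DualGr.ctrEnds ends D) (LabGraph.ctrFn ends D β) := fun c =>
  ⟨(hβ _).1, by rw [sum_ctr hD hβ]; exact dvd_neg.mpr (dvd_mul_left _ _)⟩

theorem mfMatrix_ctr (hβ : LabGraph.IsMultFn ends β) (c d : DualGr.CtrVert ends D) :
    LabGraph.mfMatrix (DualGr.ctrEnds ends D) (LabGraph.ctrFn ends D β) c d
      = blockSum ends D β c d := by
  rcases eq_or_ne c d with rfl | h
  · simp only [LabGraph.mfMatrix, if_pos]
    rw [sum_ctr hD hβ, neg_neg]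
    exact Int.mul_ediv_cancel _ (hβ _).1.ne'
  · rw [mfMatrix_ne h, blockSum_ne h]

/-- The contracted matrix is `push ∘ α ∘ pull`. -/
theorem mulVec_ctr (hβ : LabGraph.IsMultFn ends β) (z : DualGr.CtrVert ends D → ℤ) :
    LabGraph.mfMatrix (DualGr.ctrEnds ends D) (LabGraph.ctrFn ends D β) *ᵥ z
      = push ends D (LabGraph.mfMatrix ends β *ᵥ fun v => z (DualGr.ctrMk ends D v)) := by
  funext c
  simp only [Matrix.mulVec, dotProduct, mfMatrix_ctr hD hβ, blockSum, push_apply,
    Finset.sum_mul, ite_mul, zero_mul]
  rw [Finset.sum_comm]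
  refine Finset.sum_congr rfl fun v _ => ?_
  by_cases h : DualGr.ctrMk ends D v = c
  · simp only [h, if_true, mul_ite, mul_one, mul_zero, Finset.sum_mul, ite_mul, zero_mul]
    rw [Finset.sum_comm]
    exact Finset.sum_congr rfl fun w _ => by simp
  · simp [h]

end Const

end GrothLib.LabGraph
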