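import Groth.Agent.Lib.LabGraph.Tree
import Groth.Agent.Lib.LabGraph.MultFn
import Groth.Agent.Lib.LabGraph.CauchyBinet
import Mathlib.LinearAlgebra.Matrix.Rank
import Mathlib.LinearAlgebra.FreeModule.Finite.Basic
import Mathlib.LinearAlgebra.Dimension.Constructions
import Mathlib.LinearAlgebra.Matrix.ToLinearEquiv

/-!
# The weighted matrix-tree theorem
-/

universe u

namespace GrothLib.LabGraph

open Finset Matrix

set_option linter.unusedSectionVars false

variable {V E : Type u} [Fintype E] [Fintype V] [DecidableEq V] [DecidableEq E] {ends : E → V × V}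
  {β : V → ℤ}

/-- Weight of an edge. -/
def wt (ends : E → V × V) (β : V → ℤ) (e : E) : ℤ := β (ends e).1 * β (ends e).2

theorem boundary_wt_dlt (hβ : LabGraph.IsMultFn ends β) (x : V → ℤ) (u : V) :
    β u * (LabGraph.mfMatrix ends β *ᵥ fun v => β v * x v) u
      = -LabGraph.boundary ends (fun e => wt ends β e * dlt ends x e) u := by
  have h1 : LabGraph.boundary ends (fun e => wt ends β e * dlt ends x e) u
      = ∑ v ∈ univ.erase u, (LabGraph.edgeMult ends u v : ℤ) * (β u * β v * (x u - x v)) := by
    simp only [LabGraph.edgeMult, Finset.natCast_card_filter, Finset.sum_mul]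
    rw [Finset.sum_comm, LabGraph.boundary]
    refine Finset.sum_congr rfl fun e _ => ?_
    by_cases h1 : (ends e).1 = u <;> by_cases h2 : (ends e).2 = u
    · rw [Finset.sum_eq_zero fun v hv => ?_]
      · simp [dlt, h1, h2]
      rw [if_neg, zero_mul]
      rintro (h | h) <;> simp [Prod.ext_iff] at h
      · exact Finset.ne_of_mem_erase hv (h.2.symm.trans h2)
      · exact Finset.ne_of_mem_erase hv (h.1.symm.trans h1)
    · rw [Finset.sum_eq_single (ends e).2]
      · simp [dlt, wt, h1, h2, Prod.ext_iff]; ring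
      · intro v _ hv
        rw [if_neg, zero_mul]
        rintro (h | h) <;> simp [Prod.ext_iff] at h
        · exact hv h.2.symm
        · exact h2 h.2
      · intro h; exact absurd (Finset.mem_erase.mpr ⟨h2, mem_univ _⟩) h
    · rw [Finset.sum_eq_single (ends e).1]
      · simp [dlt, wt, h1, h2, Prod.ext_iff]
        grind
      · intro v _ hv
        rw [if_neg, zero_mul]
        rintro (h | h) <;> simp [Prod.ext_iff] at h
        · exact h1 h.1
        · exact hv h.1.symm
      · intro h; exact absurd (Finset.mem_erase.mpr ⟨h1, mem_univ _⟩) h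
    · simp [h1, h2]
      refine (Finset.sum_eq_zero fun v hv => ?_).symm
      rw [if_neg]
      rintro (h | h) <;> simp [Prod.ext_iff] at h
      · exact h1 h.1
      · exact h2 h.2
  have h2 := mfMatrix_diag hβ u
  show β u * ∑ v, LabGraph.mfMatrix ends β u v * (β v * x v) = _
  rw [h1, ← Finset.add_sum_erase _ _ (mem_univ u),
    Finset.sum_congr rfl (fun v hv => by rw [mfMatrix_ne (Finset.ne_of_mem_erase hv).symm])]
  have h3 : ∑ v ∈ univ.erase u, (LabGraph.edgeMult ends u v : ℤ) * (β u * β v * (x u - x v))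
      = β u * x u * (∑ v ∈ univ.erase u, β v * (LabGraph.edgeMult ends u v : ℤ))
        - β u * ∑ v ∈ univ.erase u, (LabGraph.edgeMult ends u v : ℤ) * (β v * x v) := by
    simp only [Finset.mul_sum, ← Finset.sum_sub_distrib]
    exact Finset.sum_congr rfl fun v _ => by ring
  rw [h3]
  linear_combination (β u * x u) * h2

theorem proportional_of_mulVec_eq_zero (hβ : LabGraph.IsMultFn ends β)
    (hG : LabGraph.Connected ends) (ψ : V → ℤ) (hψ : LabGraph.mfMatrix ends β *ᵥ ψ = 0) (u v : V) :
    ψ u * β v = ψ v * β u := by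
  let P : ℤ := ∏ w, β w
  let φ : V → ℤ := fun w => ψ w * ∏ z ∈ univ.erase w, β z
  have hφ : (fun w => β w * φ w) = P • ψ := funext fun w => by
    simp only [φ, Pi.smul_apply, smul_eq_mul, P]
    rw [← Finset.mul_prod_erase _ _ (mem_univ w)]; ring
  have hzero : ∀ w, LabGraph.boundary ends (fun e => wt ends β e * dlt ends φ e) w = 0 := by
    intro w
    have := boundary_wt_dlt hβ φ w
    rw [hφ, Matrix.mulVec_smul, hψ, smul_zero, Pi.zero_apply, mul_zero] at this
    linarith
  have hsum : ∑ e, wt ends β e * dlt ends φ e * dlt ends φ e = 0 :=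
    (isCyc_iff_boundary _).mpr hzero φ
  have hw : ∀ e, 0 < wt ends β e := fun e => mul_pos (hβ _).1 (hβ _).1
  have hd : ∀ e, dlt ends φ e = 0 := fun e => by
    have := (Finset.sum_eq_zero_iff_of_nonneg fun e _ => by
      rw [mul_assoc]; exact mul_nonneg (hw e).le (mul_self_nonneg _)).mp hsum e (mem_univ e)
    simpa [(hw e).ne'] using this
  have hc := eq_of_dlt_eq_zero hG φ hd u v
  have hu := congrFun hφ u
  have hv := congrFun hφ v
  simp only [Pi.smul_apply, smul_eq_mul] at hu hv
  have hP : P ≠ 0 := Finset.prod_ne_zero_iff.mpr fun w _ => (hβ w).1.ne'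
  refine mul_left_cancel₀ hP ?_
  rw [← mul_assoc, ← mul_assoc, ← hu, ← hv, hc]; ring

/-- Incidence matrix. -/
def inc (ends : E → V × V) (r : V) : Matrix E {v // v ≠ r} ℤ :=
  fun e v => dlt ends (Pi.single v.1 1) e

/-- Extension by zero. -/
def ext0 (r : V) (x : {v // v ≠ r} → ℤ) : V → ℤ := fun v => if h : v = r then 0 else x ⟨v, h⟩

theorem sum_ext0 (r : V) (x : {v // v ≠ r} → ℤ) (g : V → ℤ) :
    ∑ v, g v * ext0 r x v = ∑ v : {v // v ≠ r}, g v * x v := by
  rw [← Finset.sum_subtype (univ.erase r) (fun v => by simp) (fun v => g v * ext0 r x v) |>.trans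
    (Finset.sum_congr rfl fun v _ => by simp [ext0, v.2]),
    ← Finset.add_sum_erase _ _ (mem_univ r)]
  simp [ext0]

theorem inc_mulVec (r : V) (x : {v // v ≠ r} → ℤ) (e : E) :
    (inc ends r *ᵥ x) e = dlt ends (ext0 r x) e := by
  show ∑ v : {v // v ≠ r}, inc ends r e v * x v = _
  simp only [inc]
  rw [← sum_ext0 r x fun v => dlt ends (Pi.single v 1) e]
  simp [dlt, sub_mul, Finset.sum_sub_distrib, Pi.single_apply]

theorem inc_det_sq [Nonempty V] (r : V) (g : {v // v ≠ r} → E) (hg : Function.Injective g)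
    [Decidable (LabGraph.IsSpanningTree ends (Finset.image g univ))] :
    ((inc ends r).submatrix g id).det * ((inc ends r).submatrix g id).det
      = if LabGraph.IsSpanningTree ends (Finset.image g univ) then 1 else 0 := by
  classical
  set S := Finset.image g univ with hS
  have hmem : ∀ i, g i ∈ S := fun i => Finset.mem_image_of_mem g (mem_univ i)
  have hmul : ∀ x i, (((inc ends r).submatrix g id) *ᵥ x) i = dlt ends (ext0 r x) (g i) :=
    fun x i => inc_mulVec r x (g i)
  by_cases hc : ∀ Z, LabGraph.IsCircuit ends Z → ¬ Z ⊆ S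
  · have hex : ∀ i, ∃ x, ((inc ends r).submatrix g id) *ᵥ x = Pi.single i 1 := fun i => by
      obtain ⟨ψ, -, hψ⟩ := exists_cut hc (hmem i)
      refine ⟨fun v => ψ v.1 - ψ r, funext fun j => ?_⟩
      rw [hmul, show ext0 r (fun v : {v // v ≠ r} => ψ v.1 - ψ r) = ψ - fun _ => ψ r from
        funext fun v => by by_cases h : v = r <;> simp [ext0, h],
        dlt_sub, dlt_const, sub_zero, hψ _ (hmem j)]
      by_cases h : j = i
      · simp [h]
      · simp [h, hg.ne h]
    choose X hX using hex
    have hinv : ((inc ends r).submatrix g id) * Matrix.of (fun v i => X i v) = 1 := by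
      ext i j
      have := congrFun (hX j) i
      simp only [Matrix.mulVec, dotProduct] at this
      simp only [Matrix.mul_apply, Matrix.of_apply, this, Matrix.one_apply, Pi.single_apply]
    have hd := congrArg Matrix.det hinv
    rw [Matrix.det_mul, Matrix.det_one] at hd
    have hunit := Int.isUnit_iff.mp (IsUnit.of_mul_eq_one _ hd)
    rw [if_pos]
    · rcases hunit with h | h <;> rw [h] <;> norm_num
    refine (isSpanningTree_iff S).mpr ⟨⟨inferInstance, fun a b => ?_⟩, hc⟩
    suffices hr : ∀ a, Linked ends S r a from ((hr a).symm _ _).trans _ _ _ (hr b)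
    intro a
    by_contra hne
    have har : a ≠ r := by rintro rfl; exact hne (Relation.EqvGen.refl a)
    let ψ : V → ℤ := fun v => if Linked ends S r v then 0 else 1
    have hz : ((inc ends r).submatrix g id) *ᵥ (fun v => ψ v.1) = 0 := funext fun j => by
      rw [hmul, show ext0 r (fun v : {v // v ≠ r} => ψ v.1) = ψ from
        funext fun v => by by_cases h : v = r <;> simp [ext0, h, ψ, Relation.EqvGen.refl]]
      have hl : Linked ends S (ends (g j)).1 (ends (g j)).2 := Linked.of_mem (hmem j)
      have : Linked ends S r (ends (g j)).1 ↔ Linked ends S r (ends (g j)).2 :=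
        ⟨fun h => h.trans _ _ _ hl, fun h => h.trans _ _ _ (hl.symm _ _)⟩
      simp [dlt, ψ, this]
    have h0 := Matrix.eq_zero_of_mulVec_eq_zero (by rcases hunit with h | h <;> rw [h] <;> decide) hz
    simpa [ψ, hne] using congrFun h0 ⟨a, har⟩
  · rw [if_neg (fun h => hc ((isSpanningTree_iff S).mp h).2)]
    push Not at hc
    obtain ⟨Z, hZ, hZS⟩ := hc
    obtain ⟨e, he⟩ := hZ.1
    obtain ⟨γ, hγ, h0, h1⟩ := EvenSet.exists_cycle hZ.2.1 he
    obtain ⟨i, -, hi⟩ := Finset.mem_image.mp (hZS he)
    have hdet : ((inc ends r).submatrix g id).det = 0 := by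
      rw [← Matrix.exists_vecMul_eq_zero_iff]
      refine ⟨γ ∘ g, fun h => by simpa [hi, h1] using congrFun h i, funext fun v => ?_⟩
      show ∑ j, γ (g j) * inc ends r (g j) v = 0
      refine Eq.trans ?_ (hγ (Pi.single v.1 1))
      rw [pair, ← Finset.sum_subset (Finset.subset_univ S) fun e' _ he' => by
        rw [h0 e' fun h => he' (hZS h), zero_mul], hS, Finset.sum_image hg.injOn]
      rfl
    simp [hdet]

theorem card_spanningTree [Nonempty V] (r : V) {T : Finset E}
    (hT : LabGraph.IsSpanningTree ends T) : T.card = Fintype.card {v // v ≠ r} := by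
  obtain ⟨⟨-, hl⟩, hc⟩ := (isSpanningTree_iff T).mp hT
  let L : ({v // v ≠ r} → ℤ) →ₗ[ℤ] (T → ℤ) :=
    LinearMap.pi fun e => (LinearMap.proj e.1).comp (inc ends r).mulVecLin
  have hL : ∀ x (e : T), L x e = dlt ends (ext0 r x) e.1 := fun x e => inc_mulVec r x e.1
  have hinj : Function.Injective L := (injective_iff_map_eq_zero L).mpr fun x hx => funext fun v => by
    have hd : ∀ e ∈ T, ext0 r x (ends e).1 = ext0 r x (ends e).2 := fun e he => by
      have := congrFun hx ⟨e, he⟩
      rw [hL, dlt, Pi.zero_apply, sub_eq_zero] at this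
      exact this.symm
    have := (hl v.1 r).apply_eq (ext0 r x) hd
    simpa [ext0, v.2] using this
  have hsurj : Function.Surjective L := fun y => by
    have hex : ∀ e : T, ∃ ψ : V → ℤ, ∀ e' ∈ T, dlt ends ψ e' = if e' = e.1 then 1 else 0 :=
      fun e => (exists_cut hc e.2).imp fun ψ h => h.2
    choose ψ hψ using hex
    refine ⟨fun v => (∑ e, y e • ψ e) v.1 - (∑ e, y e • ψ e) r, funext fun e => ?_⟩
    rw [hL, show ext0 r (fun v : {v // v ≠ r} => (∑ e, y e • ψ e) v.1 - (∑ e, y e • ψ e) r)
        = (∑ e, y e • ψ e) - fun _ => (∑ e, y e • ψ e) r from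
      funext fun v => by by_cases h : v = r <;> simp [ext0, h], dlt_sub, dlt_const, sub_zero, dlt_sum]
    simp only [dlt_smul, hψ _ e.1 e.2]
    rw [Finset.sum_eq_single e (fun b _ hb => by
      rw [if_neg (fun h => hb (Subtype.ext h.symm)), mul_zero]) (by simp)]
    simp
  have := (LinearEquiv.ofBijective L ⟨hinj, hsurj⟩).finrank_eq
  rw [Module.finrank_pi, Module.finrank_pi, Fintype.card_coe] at this
  exact this.symm

theorem endCount_eq_nbrCount {T : Finset E} (hc : ∀ Z, LabGraph.IsCircuit ends Z → ¬ Z ⊆ T)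
    (v : V) : LabGraph.endCount ends T v = LabGraph.nbrCount ends T v := by
  have hno : ∀ γ, IsCyc ends γ → (∀ e, e ∉ T → γ e = 0) → γ = 0 := fun γ hγ h0 => by
    by_contra hne
    obtain ⟨e, he⟩ := Function.ne_iff.mp hne
    obtain ⟨Z, hZ, hs⟩ := hγ.exists_circuit (e := e) he
    exact hc Z hZ fun e' he' => by_contra fun h => hs e' he' (h0 e' h)
  have hloop : ∀ e ∈ T, (ends e).1 ≠ (ends e).2 := fun e he h => by
    have := congrFun (hno (Pi.single (M := fun _ => ℤ) e 1) (fun φ => by rw [pair_single, dlt, h, sub_self])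
      (fun e' he' => Pi.single_eq_of_ne (show e' ≠ e from fun h' => he' (h' ▸ he)) _)) e
    simp at this
  have hpar : ∀ e ∈ T, ∀ e' ∈ T, (ends e' = ends e ∨ ends e' = ((ends e).2, (ends e).1)) → e' = e := by
    intro e he e' he' h
    by_contra hne
    have key : ∀ s : ℤ, (∀ φ : V → ℤ, dlt ends φ e' = s * dlt ends φ e) → False := fun s hs => by
      have := congrFun (hno (Pi.single (M := fun _ => ℤ) e' 1 - s • Pi.single (M := fun _ => ℤ) e 1)
        (fun φ => by rw [pair_sub, pair_smul, pair_single, pair_single, hs, sub_self])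
        (fun a ha => by simp [show a ≠ e' from fun h => ha (h ▸ he'), show a ≠ e from fun h => ha (h ▸ he)])) e'
      simp [hne] at this
    rcases h with h | h
    · exact key 1 fun φ => by simp [dlt, h]
    · exact key (-1) fun φ => by simp [dlt, h]
  let other : E → V := fun e => if (ends e).1 = v then (ends e).2 else (ends e).1
  let I := T.filter fun e => (ends e).1 = v ∨ (ends e).2 = v
  have hcard : LabGraph.endCount ends T v = I.card := by
    rw [LabGraph.endCount, Finset.card_filter]
    refine Finset.sum_congr rfl fun e he => ?_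
    by_cases h1 : (ends e).1 = v <;> by_cases h2 : (ends e).2 = v <;> simp [h1, h2]
    exact absurd (h1.trans h2.symm) (hloop e he)
  rw [hcard, LabGraph.nbrCount]
  refine Finset.card_bij (fun e _ => other e) (fun e he => ?_) (fun e he e' he' h => ?_) (fun w hw => ?_)
  · simp only [I, Finset.mem_filter] at he
    simp only [Finset.mem_filter, Finset.mem_univ, true_and, other]
    by_cases h1 : (ends e).1 = v
    · rw [if_pos h1]
      exact ⟨fun h => hloop e he.1 (h1.trans h.symm), e, he.1, Or.inl (Prod.ext h1 rfl)⟩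
    · rw [if_neg h1]
      exact ⟨h1, e, he.1, Or.inr (Prod.ext rfl (he.2.resolve_left h1))⟩
  · simp only [I, Finset.mem_filter] at he he'
    refine (hpar e he.1 e' he'.1 ?_).symm
    simp only [other] at h
    have := hloop e he.1
    have := hloop e' he'.1
    grind
  · simp only [Finset.mem_filter, Finset.mem_univ, true_and] at hw
    obtain ⟨hwv, e, he, hh | hh⟩ := hw
    · exact ⟨e, by simp [I, he, hh], by simp [other, hh]⟩
    · exact ⟨e, by simp [I, he, hh], by simp [other, hh, hwv]⟩

theorem prod_wt (T : Finset E) :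
    ∏ e ∈ T, wt ends β e = ∏ v, β v ^ LabGraph.endCount ends T v := by
  simp only [LabGraph.endCount, ← Finset.prod_pow_eq_pow_sum]
  rw [Finset.prod_comm]
  refine Finset.prod_congr rfl fun e _ => ?_
  simp only [pow_add, Finset.prod_mul_distrib]
  simp [wt, pow_ite]

open scoped Classical in
theorem gram_det [Nonempty V] (r : V) :
    ((inc ends r)ᵀ * Matrix.diagonal (wt ends β) * inc ends r).det
      = ∑ T ∈ univ.powerset.filter (fun T : Finset E => LabGraph.IsSpanningTree ends T),
          ∏ v, β v ^ LabGraph.nbrCount ends T v := by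
  rw [det_gram (inc ends r) (wt ends β) (fun S => if LabGraph.IsSpanningTree ends S then 1 else 0)
    (fun g hg => inc_det_sq r g hg)]
  simp only [ite_mul, one_mul, zero_mul]
  rw [← Finset.sum_filter, Finset.filter_filter]
  refine Finset.sum_congr (Finset.filter_congr fun T _ => ⟨fun h => h.2,
    fun h => ⟨card_spanningTree r h, h⟩⟩) fun T hT => ?_
  rw [prod_wt]
  refine Finset.prod_congr rfl fun v _ => ?_
  rw [endCount_eq_nbrCount ((isSpanningTree_iff T).mp (Finset.mem_filter.mp hT).2).2]

/-- The principal minor. -/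
def minor (ends : E → V × V) (β : V → ℤ) (r : V) : Matrix {v // v ≠ r} {v // v ≠ r} ℤ :=
  (LabGraph.mfMatrix ends β).submatrix Subtype.val Subtype.val

open scoped Classical in
theorem minor_det [Nonempty V] (hβ : LabGraph.IsMultFn ends β) (r : V) :
    (∏ v : {v // v ≠ r}, β v.1) * (∏ v : {v // v ≠ r}, β v.1) * ((minor ends β r).det.natAbs : ℤ)
      = ∑ T ∈ univ.powerset.filter (fun T : Finset E => LabGraph.IsSpanningTree ends T),
          ∏ v, β v ^ LabGraph.nbrCount ends T v := by
  rw [← gram_det r]
  have hmat : Matrix.diagonal (fun v : {v // v ≠ r} => β v.1) * minor ends β r *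
      Matrix.diagonal (fun v : {v // v ≠ r} => β v.1)
        = -((inc ends r)ᵀ * Matrix.diagonal (wt ends β) * inc ends r) := by
    ext u v
    have h := boundary_wt_dlt hβ (Pi.single v.1 1) u.1
    have hx : (fun w => β w * (Pi.single v.1 (1 : ℤ) : V → ℤ) w) = Pi.single v.1 (β v.1) := by
      funext w; by_cases hw : w = v.1
      · subst hw; simp
      · simp [hw]
    rw [hx] at h
    simp only [Matrix.mulVec_single, Pi.smul_apply, MulOpposite.smul_eq_mul_unop, MulOpposite.unop_op,
      Matrix.col_apply] at h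
    rw [Matrix.mul_diagonal, Matrix.diagonal_mul, Matrix.neg_apply, minor, Matrix.submatrix_apply,
      mul_assoc, h, Matrix.mul_assoc, Matrix.mul_apply]
    congr 1
    rw [LabGraph.boundary]
    refine Finset.sum_congr rfl fun e _ => ?_
    simp only [Matrix.transpose_apply, Matrix.diagonal_mul, inc]
    have he : dlt ends (Pi.single u.1 1) e
        = (if (ends e).2 = u.1 then 1 else 0) - (if (ends e).1 = u.1 then 1 else 0) := by
      simp [dlt, Pi.single_apply]
    rw [he]; split_ifs <;> ring
  have h := congrArg (fun M => (Matrix.det M).natAbs) hmat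
  simp only [Matrix.det_mul, Matrix.det_diagonal, Matrix.det_neg, Int.natAbs_mul, Int.natAbs_pow,
    Int.natAbs_neg, Int.natAbs_one, one_pow, one_mul] at h
  have hP : 0 ≤ ∏ v : {v // v ≠ r}, β v.1 := Finset.prod_nonneg fun v _ => (hβ _).1.le
  have hS : 0 ≤ ((inc ends r)ᵀ * Matrix.diagonal (wt ends β) * inc ends r).det := by
    rw [gram_det r]
    exact Finset.sum_nonneg fun T _ => Finset.prod_nonneg fun v _ => pow_nonneg (hβ v).1.le _
  rw [← Int.natAbs_of_nonneg hP, ← Int.natAbs_of_nonneg hS, ← Nat.cast_mul, ← Nat.cast_mul,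
    Nat.cast_inj, ← h]
  ring

end GrothLib.LabGraph
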