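import Groth.Agent.Lib.LabGraph.Basic
import Groth.Prelude.Def_W4c2conddiscmodels
import Mathlib.Data.Finset.Max

/-!
# Spanning trees
-/

universe u

namespace GrothLib.LabGraph

open Finset

set_option linter.unusedSectionVars false

variable {V E : Type u} [Fintype E] [Fintype V] [DecidableEq V] [DecidableEq E] {ends : E → V × V}

theorem isCircuit_sub_iff (T : Finset E) (C : Finset T) :
    LabGraph.IsCircuit (fun e : T => ends e.1) C ↔
      LabGraph.IsCircuit ends (C.map (Function.Embedding.subtype _)) := by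
  have hend : ∀ (C : Finset T) v, LabGraph.endCount (fun e : T => ends e.1) C v =
      LabGraph.endCount ends (C.map (Function.Embedding.subtype _)) v := fun C v => by
    simp only [LabGraph.endCount, Finset.sum_map]; rfl
  simp only [LabGraph.IsCircuit, hend, Finset.map_nonempty]
  refine and_congr_right fun _ => and_congr_right fun _ =>
    ⟨fun h C' hC' hne => ?_, fun h C' hC' hne => h _ (Finset.map_ssubset_map.mpr hC') (hne.map)⟩
  have hsub : ∀ a ∈ C', a ∈ T := fun a ha => by
    obtain ⟨b, -, rfl⟩ := Finset.mem_map.mp (hC'.subset ha)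
    exact b.2
  have hmap : (C'.subtype (· ∈ T)).map (Function.Embedding.subtype _) = C' :=
    Finset.subtype_map_of_mem hsub
  obtain ⟨v, hv⟩ := h (C'.subtype (· ∈ T))
    (Finset.map_ssubset_map.mp (by rw [hmap]; exact hC'))
    (by rw [← Finset.map_nonempty (f := Function.Embedding.subtype _), hmap]; exact hne)
  exact ⟨v, by rwa [hmap] at hv⟩

theorem connected_sub_iff (T : Finset E) :
    LabGraph.Connected (fun e : T => ends e.1) ↔ Nonempty V ∧ ∀ a b, Linked ends T a b := by
  refine and_congr_right fun _ => forall_congr' fun a => forall_congr' fun b => ⟨fun h => ?_, fun h => ?_⟩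
  · induction h with
    | refl => exact .refl a
    | tail _ hxy ih =>
      refine ih.trans _ _ _ ?_
      obtain ⟨e, he | he⟩ := hxy
      · exact .rel _ _ ⟨e.1, e.2, he⟩
      · exact (Relation.EqvGen.rel _ _ ⟨e.1, e.2, he⟩).symm _ _
  · have hsymm : Std.Symm (LabGraph.Adj fun e : T => ends e.1) :=
      ⟨fun x y ⟨e, he⟩ => ⟨e, he.symm⟩⟩
    induction h with
    | rel x y hxy =>
      obtain ⟨e, he, hee⟩ := hxy
      exact .single ⟨⟨e, he⟩, Or.inl hee⟩
    | refl x => exact .refl
    | symm x y _ ih => exact Relation.ReflTransGen.stdSymm.symm _ _ ih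
    | trans x y z _ _ ih1 ih2 => exact ih1.trans ih2

theorem isSpanningTree_iff (T : Finset E) :
    LabGraph.IsSpanningTree ends T ↔
      (Nonempty V ∧ ∀ a b, Linked ends T a b) ∧ ∀ C, LabGraph.IsCircuit ends C → ¬ C ⊆ T := by
  refine and_congr (connected_sub_iff T) ⟨fun h C hC hsub => ?_, fun h C hC => ?_⟩
  · have hmap : (C.subtype (· ∈ T)).map (Function.Embedding.subtype _) = C :=
      Finset.subtype_map_of_mem hsub
    exact h (C.subtype (· ∈ T)) ((isCircuit_sub_iff T _).mpr (by rwa [hmap]))
  · exact h _ ((isCircuit_sub_iff T C).mp hC) fun a ha => by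
      obtain ⟨b, -, rfl⟩ := Finset.mem_map.mp ha
      exact b.2

theorem linked_erase_of_circuit {C D : Finset E} (hC : LabGraph.IsCircuit ends C) (hCD : C ⊆ D)
    {e : E} (he : e ∈ C) : Linked ends (D.erase e) (ends e).1 (ends e).2 := by
  classical
  by_contra hcon
  obtain ⟨γ, hγ, h0, h1⟩ := EvenSet.exists_cycle hC.2.1 he
  let ψ : V → ℤ := fun v => if Linked ends (D.erase e) (ends e).2 v then 1 else 0
  have h := hγ ψ
  rw [pair, Finset.sum_eq_single e (fun e' _ hne => ?_) (by simp)] at h
  · have h' : ¬ Linked ends (D.erase e) (ends e).2 (ends e).1 := fun h => hcon (h.symm _ _)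
    simp [h1, dlt, ψ, h', Relation.EqvGen.refl] at h
  · by_cases hD : e' ∈ C
    · have hl : Linked ends (D.erase e) (ends e').1 (ends e').2 :=
        Linked.of_mem (Finset.mem_erase.mpr ⟨hne, hCD hD⟩)
      have hiff : Linked ends (D.erase e) (ends e).2 (ends e').1 ↔
          Linked ends (D.erase e) (ends e).2 (ends e').2 :=
        ⟨fun h1 => h1.trans _ _ _ hl, fun h1 => h1.trans _ _ _ (hl.symm _ _)⟩
      simp [dlt, ψ, hiff]
    · simp [h0 e' hD]

/-- A connected spanning edge set contains a spanning tree. -/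
theorem exists_spanningTree_subset [Nonempty V] {D : Finset E}
    (hD : ∀ a b, Linked ends D a b) : ∃ T ⊆ D, LabGraph.IsSpanningTree ends T := by
  induction D using Finset.strongInductionOn with
  | _ D ih =>
    by_cases h : ∀ C, LabGraph.IsCircuit ends C → ¬ C ⊆ D
    · exact ⟨D, Finset.Subset.refl D, (isSpanningTree_iff D).mpr ⟨⟨inferInstance, hD⟩, h⟩⟩
    · push Not at h
      obtain ⟨C, hC, hCD⟩ := h
      obtain ⟨e, he⟩ := hC.1
      obtain ⟨T, hT, hsp⟩ := ih (D.erase e) (Finset.erase_ssubset (hCD he)) fun a b =>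
        (hD a b).induct fun e' he' => by
          by_cases h : e' = e
          · subst h; exact linked_erase_of_circuit hC hCD he
          · exact Linked.of_mem (Finset.mem_erase.mpr ⟨h, he'⟩)
      exact ⟨T, hT.trans (Finset.erase_subset _ _), hsp⟩

theorem mem_circuit_iff (hG : LabGraph.Connected ends) (v : V) :
    (∃ C : Finset E, LabGraph.IsCircuit ends C ∧ LabGraph.endCount ends C v ≠ 0) ↔
      ∃ T : Finset E, LabGraph.IsSpanningTree ends T ∧
        ∃ e : E, e ∉ T ∧ ((ends e).1 = v ∨ (ends e).2 = v) := by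
  constructor
  · rintro ⟨C, hC, hv⟩
    obtain ⟨e, he, hne⟩ := Finset.exists_ne_zero_of_sum_ne_zero hv
    have hinc : (ends e).1 = v ∨ (ends e).2 = v := by
      by_contra h; push Not at h; simp [h.1, h.2] at hne
    have := hG.1
    obtain ⟨T, hT, hsp⟩ := exists_spanningTree_subset (ends := ends) (D := univ.erase e) fun a b =>
      (linked_univ hG a b).induct fun e' _ => by
        by_cases h : e' = e
        · subst h; exact linked_erase_of_circuit hC (Finset.subset_univ _) he
        · exact Linked.of_mem (Finset.mem_erase.mpr ⟨h, mem_univ _⟩)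
    exact ⟨T, hsp, e, fun h => Finset.notMem_erase e univ (hT h), hinc⟩
  · rintro ⟨T, hT, e, he, hinc⟩
    obtain ⟨⟨-, hl⟩, hno⟩ := (isSpanningTree_iff T).mp hT
    obtain ⟨γ, h0, hp⟩ := exists_flow (hl (ends e).2 (ends e).1)
    have hcyc : IsCyc ends (γ + Pi.single (M := fun _ : E => ℤ) e 1) := fun φ => by
      rw [pair_add, hp, pair_single, dlt]; ring
    have he1 : (γ + Pi.single (M := fun _ : E => ℤ) e 1) e = 1 := by simp [h0 e he]
    obtain ⟨Z, hZ, hZsupp⟩ := hcyc.exists_circuit (e := e) (by rw [he1]; decide)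
    refine ⟨Z, hZ, ?_⟩
    have heZ : e ∈ Z := by
      by_contra hc
      refine hno Z hZ fun e' he' => by_contra fun h' => hZsupp e' he' ?_
      simp [h0 e' h', show e' ≠ e from fun h => hc (h ▸ he')]
    rw [LabGraph.endCount, Ne, Finset.sum_eq_zero_iff]
    intro hz
    have := hz e heZ
    rcases hinc with h | h <;> simp [h] at this

end GrothLib.LabGraph
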